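import Cfsg.Agent.Lib.Schur.FiTwentyTwo.Pres

set_option autoImplicit false
set_option linter.all false

namespace CfsgLib.SchurFi22

namespace L1

open CfsgLib.CosetEnum

/-- Relator words in local letters. -/
def lsl : List (List ℕ) := [[0, 0]]

/-- Subgroup letters. -/
def lsub : List (List ℕ) := []

noncomputable def col0 : Tr :=
 (.leaf (nat_lit 0x1))
noncomputable def table : List Tr := [col0]

noncomputable def facts : Tr :=
 (.leaf (nat_lit 0x100000))
noncomputable def words : Tr :=
 (.leaf (nat_lit 0x100000000000001000000000000000100000000000000010000000000000001000000000000000100))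
noncomputable def subs : Tr :=
 (.leaf (nat_lit 0x0))
noncomputable def lives : Tr :=
 (.leaf (nat_lit 0x100000))
noncomputable def entryFact : Tr :=
 (.leaf (nat_lit 0x2000001))
noncomputable def items0 : List ℕ := [
nat_lit 0x0]
theorem facts_ok0 : checkFacts facts 18364758544493064720 words 64 subs 2 items0 0 = true := by decide +kernel
theorem facts_ok_upto1 : ∀ j < 1, ∃ item, checkFact facts 18364758544493064720 words 64 subs 2 j item = true := fun j hj =>
  have h : 0 ≤ j := Nat.zero_le j
  checkFacts_spec _ _ _ _ _ _ items0 0 facts_ok0 j h (lt_of_lt_of_eq hj (by decide +kernel))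
theorem facts_ok : ∀ j < 1, ∃ item, checkFact facts 18364758544493064720 words 64 subs 2 j item = true := facts_ok_upto1
theorem rows_0 : checkRows facts 18364758544493064720 lives entryFact table 2 1 1 2 0 = true := by decide +kernel
theorem rows_ok_upto2 : ∀ k < 2, checkRow facts 18364758544493064720 lives entryFact 2 1 1 k table 0 = true := fun k hk =>
  have h : 0 ≤ k := Nat.zero_le k
  checkRows_spec _ _ _ _ _ _ _ _ _ _ rows_0 k h hk
theorem rows_ok : ∀ k < 2, checkRow facts 18364758544493064720 lives entryFact 2 1 1 k table 0 = true := rows_ok_upto2
theorem words_fit : words.fits 64 128 = true := by decide +kernel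
theorem words_eq : listEq (words.entries 64 128) (allCodes 18364758544493064720 1 lsl) = true := by decide +kernel
theorem subs_fit : subs.fits 64 128 = true := by decide +kernel
theorem subs_eq : listEq (subs.entries 64 128) (subCodes 18364758544493064720 lsub) = true := by decide +kernel
theorem lives_zero : Nat.beq (lives.get 20 0) 0 = true := by decide +kernel

theorem covers {X : Type*} [Group X] {g : ℕ → X} (h : Rels lsK g) : CoversCosets (Level g [1]) (Level g []) 2 :=
  covers_level h.h15 h.hinv lsK h.words [1] [] 18364758544493064720 (ip := 18364758544493064720) (by decide +kernel) lsl lsub (by decide +kernel) (by decide +kernel)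
    facts L1.words subs lives entryFact L1.table 64 128 2 1 2 1 rfl rfl (by omega)
    words_fit words_eq subs_fit subs_eq facts_ok lives_zero rows_ok

end L1

end CfsgLib.SchurFi22
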