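import Cfsg.Agent.Lib.CosetEnum.Chain
import Cfsg.Agent.Lib.Schur.FiTwentyTwo.PermK
import Cfsg.Agent.Lib.Schur.FiTwentyTwo.L7
import Cfsg.Agent.Lib.Schur.FiTwentyTwo.L6
import Cfsg.Agent.Lib.Schur.FiTwentyTwo.L5
import Cfsg.Agent.Lib.Schur.FiTwentyTwo.L4
import Cfsg.Agent.Lib.Schur.FiTwentyTwo.L2
import Cfsg.Agent.Lib.Schur.FiTwentyTwo.L1

set_option autoImplicit false
set_option linter.all false
set_option synthInstance.maxSize 2000

/-! If the spider word commutes with seven affine `E₆` generators, its cube is trivial. -/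

namespace CfsgLib.SchurFi22

open CfsgLib.CosetEnum

variable {X : Type} [Group X] [Finite X] {n : ℕ}

/-- An element of `K` fixing a point whose orbit is as long as the covering number lies in the subgroup `H`. -/
theorem mem_of_covers_orbit {K H : Subgroup X} {N : ℕ} (hc : CoversCosets K H N) (hHK : H ≤ K)
    (f : X →* Equiv.Perm (Fin n)) (p : Fin n) (hfix : ∀ h ∈ H, f h p = p)
    (l : List (Fin n)) (hl : l.Nodup) (hlN : l.length = N) (horb : ∀ q ∈ l, ∃ k ∈ K, f k p = q)
    {x : X} (hx : x ∈ K) (hxp : f x p = p) : x ∈ H := by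
  letI : MulAction K (Fin n) := MulAction.compHom (Fin n) (f.comp K.subtype)
  have hN : N ≤ (MulAction.orbit K p).ncard := by
    have h1 : {q | q ∈ l} ⊆ MulAction.orbit K p := fun q hq => by
      obtain ⟨k, hk, hkq⟩ := horb q hq
      exact ⟨⟨k, hk⟩, hkq⟩
    classical
    calc N = l.toFinset.card := by rw [List.toFinset_card_of_nodup hl, hlN]
      _ = {q | q ∈ l}.ncard := by rw [← Set.ncard_coe_finset, List.coe_toFinset]
      _ ≤ _ := Set.ncard_le_ncard h1 (Set.toFinite _)
  rw [← MulAction.index_stabilizer] at hN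
  have h2 := (MulAction.stabilizer K p).card_mul_index
  have h3 := hc.card_le.2
  have hle : H.subgroupOf K ≤ MulAction.stabilizer K p := fun h hh => hfix _ hh
  have h4 : Nat.card (H.subgroupOf K) = Nat.card H := Nat.card_congr (Subgroup.subgroupOfEquivOfLe hHK).toEquiv
  have hpos : 0 < (MulAction.stabilizer K p).index := Nat.pos_of_ne_zero Subgroup.index_ne_zero_of_finite
  have h5 : Nat.card (MulAction.stabilizer K p) ≤ Nat.card (H.subgroupOf K) := by
    rw [h4]
    refine Nat.le_of_mul_le_mul_right ?_ hpos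
    rw [h2]
    exact h3.trans (by rw [mul_comm N]; exact Nat.mul_le_mul_left _ hN)
  have heq := Subgroup.eq_of_le_of_card_ge hle h5
  have : (⟨x, hx⟩ : K) ∈ H.subgroupOf K := by rw [heq]; exact hxp
  exact this

theorem ip_ok : ipOK 18364758544493064720 = true := by decide +kernel

theorem row_ok : ∀ k < 729, rowOK PermK.table 18364758544493064720 729 k = true := fun k hk => by
  have := allFrom_spec _ _ _ PermK.all_0 k (Nat.zero_le _) (by omega)
  simp only [Bool.and_eq_true] at this
  exact this.1.1

/-- The permutations of the letters. -/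
noncomputable def pK (x : ℕ) : Equiv.Perm (Fin 729) := permOf PermK.table 18364758544493064720 729 ip_ok row_ok x

theorem pK_rels : Rels lsK pK := by
  refine ⟨permOf_out _ _ _ _ _ (by omega) (by decide +kernel), fun x hx => permOf_linv _ _ _ _ _ hx, fun l hl => ?_⟩
  have h16 : ∀ x ∈ l, x < 16 := by revert l; decide +kernel
  refine ⟨h16, prod_eq_one_of_scan PermK.table 18364758544493064720 729 ip_ok row_ok l h16 fun k hk => ?_⟩
  have := allFrom_spec _ _ _ PermK.all_0 k (Nat.zero_le _) (by omega)
  simp only [Bool.and_eq_true] at this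
  exact fixesAll_spec _ _ _ this.1.2 l hl

theorem pK_cube : ((sw ++ sw ++ sw).map pK).prod = 1 :=
  prod_eq_one_of_scan PermK.table 18364758544493064720 729 ip_ok row_ok _ (by decide +kernel) fun k hk => by
    have := allFrom_spec _ _ _ PermK.all_0 k (Nat.zero_le _) (by omega)
    simp only [Bool.and_eq_true] at this
    exact Nat.eq_of_beq_eq_true this.2

variable {Y : Type} [Group Y]

/-- The product of the given letters with the permutations. -/
noncomputable def pairLetters (y : ℕ → Y) (x : ℕ) : Y × Equiv.Perm (Fin 729) := (y x, pK x)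

theorem pair_prod (y : ℕ → Y) (l : List ℕ) : (l.map (pairLetters y)).prod = ((l.map y).prod, (l.map pK).prod) := by
  induction l with
  | nil => rfl
  | cons a r ih => simp [ih, pairLetters]

theorem pair_rels {y : ℕ → Y} (h : Rels lsK y) : Rels lsK (pairLetters y) := by
  refine ⟨Prod.ext h.h15 pK_rels.h15, fun x hx => Prod.ext (h.hinv x hx) (pK_rels.hinv x hx), fun l hl => ⟨(h.words l hl).1, ?_⟩⟩
  rw [pair_prod, (h.words l hl).2, (pK_rels.words l hl).2]
  rfl

/-- One step down the chain. -/
theorem descend [Finite Y] {y : ℕ → Y} (sel sub : List ℕ) (hsub : ∀ x ∈ sub, x ∈ sel) (hsel : ∀ x ∈ sel, x < 16)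
    (hlinv : ∀ x ∈ sel, linv 18364758544493064720 x = x)
    {N : ℕ} (hc : CoversCosets (Level (pairLetters y) sel) (Level (pairLetters y) sub) N) (p : ℕ) (hp : p < 729)
    (hfix : ∀ x ∈ sub, act PermK.table x p = p) (paths : List (List ℕ))
    (hpaths : (paths.all fun w => w.all fun x => decide (x ∈ sel)) = true ∧
      List.Nodup (paths.map fun w => scan PermK.table w p) ∧ paths.length = N)
    {a : Y} (ha : ((a, 1) : Y × Equiv.Perm (Fin 729)) ∈ Level (pairLetters y) sel) :
    ((a, 1) : Y × Equiv.Perm (Fin 729)) ∈ Level (pairLetters y) sub := by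
  obtain ⟨hsel', hnd, hlen⟩ := hpaths
  have hmem : ∀ w ∈ paths, ∀ x ∈ w, x ∈ sel := fun w hw x hx => by
    have h1 := List.all_eq_true.mp hsel' w hw
    exact of_decide_eq_true (List.all_eq_true.mp h1 x hx)
  have hlt : ∀ w : List ℕ, (∀ x ∈ w, x ∈ sel) → ∀ k < 729, scan PermK.table w k < 729 := by
    intro w
    induction w with
    | nil => intro _ k hk; exact hk
    | cons x r ih =>
      intro hw k hk
      rw [scan_cons]
      exact ih (fun z hz => hw z (List.mem_cons_of_mem _ hz)) _
        (act_spec PermK.table 18364758544493064720 729 row_ok (hsel x (hw x (by simp))) hk).1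
  let f : Y × Equiv.Perm (Fin 729) →* Equiv.Perm (Fin 729) := MonoidHom.snd Y (Equiv.Perm (Fin 729))
  let toFin : List ℕ → Fin 729 := fun w =>
    if h : scan PermK.table w p < 729 then ⟨scan PermK.table w p, h⟩ else ⟨p, hp⟩
  refine mem_of_covers_orbit hc (level_mono _ hsub) f ⟨p, hp⟩ ?_ (paths.map toFin) ?_ (by rw [List.length_map, hlen])
    ?_ ha rfl
  · intro h hh
    induction hh using Subgroup.closure_induction with
    | mem b hb =>
      obtain ⟨x, hx, rfl⟩ := hb
      refine Fin.ext ?_
      show ((pK x) (⟨p, hp⟩ : Fin 729) : ℕ) = p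
      rw [pK, permOf_apply _ _ _ _ _ (hsel x (hsub x hx)), hlinv x (hsub x hx)]
      exact hfix x hx
    | one => simp
    | mul b c _ _ ihb ihc => rw [map_mul, Equiv.Perm.mul_apply, ihc, ihb]
    | inv b _ ihb => rw [map_inv, Equiv.Perm.inv_def, Equiv.symm_apply_eq]; exact ihb.symm
  · refine List.Nodup.of_map Fin.val ?_
    rw [List.map_map]
    convert hnd using 1
    refine List.map_congr_left fun w hw => ?_
    simp [toFin, hlt w (hmem w hw) p hp]
  · intro q hq
    obtain ⟨w, hw, rfl⟩ := List.mem_map.mp hq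
    have hw16 : ∀ x ∈ w, x < 16 := fun x hx => hsel x (hmem w hw x hx)
    refine ⟨((invWord 18364758544493064720 w).map (pairLetters y)).prod, list_prod_mem ?_, ?_⟩
    · intro b hb
      obtain ⟨x, hx, rfl⟩ := List.mem_map.mp hb
      simp only [invWord, List.mem_map, List.mem_reverse] at hx
      obtain ⟨z, hz, rfl⟩ := hx
      rw [hlinv z (hmem w hw z hz)]
      exact mem_level _ (hmem w hw z hz)
    · refine Fin.ext ?_
      show (((((invWord 18364758544493064720 w).map (pairLetters y)).prod).2 (⟨p, hp⟩ : Fin 729)) : ℕ) = _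
      rw [pair_prod]
      show ((((invWord 18364758544493064720 w).map pK).prod (⟨p, hp⟩ : Fin 729)) : ℕ) = _
      rw [show pK = permOf PermK.table 18364758544493064720 729 ip_ok row_ok from rfl,
        prod_invWord_apply _ _ _ _ _ w hw16]
      simp [toFin, hlt w (hmem w hw) p hp]

theorem spider_cube [Finite Y] {y : ℕ → Y} (h : Rels lsK y) : ((sw ++ sw ++ sw).map y).prod = 1 := by
  set g := pairLetters y
  have hg : Rels lsK g := pair_rels h
  set a := ((sw ++ sw ++ sw).map y).prod
  have h0 : ((a, 1) : Y × Equiv.Perm (Fin 729)) ∈ Level g [1, 2, 3, 4, 5, 7, 8] := by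
    have e : ((a, 1) : Y × Equiv.Perm (Fin 729)) = ((sw ++ sw ++ sw).map g).prod := by
      rw [pair_prod, pK_cube]
    rw [e]
    refine list_prod_mem fun b hb => ?_
    obtain ⟨x, hx, rfl⟩ := List.mem_map.mp hb
    exact mem_level g ((by decide +kernel : ∀ x ∈ sw ++ sw ++ sw, x ∈ [1, 2, 3, 4, 5, 7, 8]) x hx)
  have h1 := descend _ _ (by decide) (by decide) (by decide +kernel) (L7.covers hg) 0 (by omega) (by decide +kernel) _ PermK.orbitL7 h0
  have h2 := descend _ _ (by decide) (by decide) (by decide +kernel) (L6.covers hg) 1 (by omega) (by decide +kernel) _ PermK.orbitL6 h1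
  have h3 := descend _ _ (by decide) (by decide) (by decide +kernel) (L5.covers hg) 2 (by omega) (by decide +kernel) _ PermK.orbitL5 h2
  have h4 := descend _ _ (by decide) (by decide) (by decide +kernel) (L4.covers hg) 31 (by omega) (by decide +kernel) _ PermK.orbitL4 h3
  have h5 := descend _ _ (by decide) (by decide) (by decide +kernel) (L2.covers hg) 3 (by omega) (by decide +kernel) _ PermK.orbitL2 h4
  have h6 := descend _ _ (by decide) (by decide) (by decide +kernel) (L1.covers hg) 4 (by omega) (by decide +kernel) _ PermK.orbitL1 h5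
  rw [level_nil, Subgroup.mem_bot] at h6
  exact congrArg Prod.fst h6

end CfsgLib.SchurFi22
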