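import Cfsg.Agent.Lib.CosetEnum.Fi22.Exact

set_option autoImplicit false
set_option linter.all false
set_option maxRecDepth 20000

/-! Seven conjugates of `c` by elements commuting with `a`, with product one in `Fi22`. -/

namespace CfsgLib.SchurFi22.Heptad

open CfsgLib.CosetEnum CfsgLib.CosetEnum.Fi22

/-- The conjugating words. -/
def uws : List (List ℕ) := [[3, 2, 4, 3],
  [3, 4, 5, 6, 0, 1, 2, 3, 4, 7, 0, 1, 2, 3, 4, 7, 0, 1, 2, 3, 4, 7, 0, 1, 2, 3, 4, 7, 0, 1, 2, 3, 4, 7],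
  [3, 4, 5, 0, 1, 2, 3, 4, 7, 0, 1, 2, 3, 4, 7, 0, 1, 2, 3, 4, 7, 0, 1, 2, 3, 4, 7, 0, 1, 2, 3, 4, 7, 8],
  [3, 2, 4, 5, 0, 1, 2, 3, 4, 7, 0, 1, 2, 3, 4, 7, 0, 1, 2, 3, 4, 7, 0, 1, 2, 3, 4, 7, 0, 1, 2, 3, 4, 7],
  [3, 2, 4, 5, 7, 8, 0, 1, 2, 3, 4, 7, 0, 1, 2, 3, 4, 7, 0, 1, 2, 3, 4, 7, 0, 1, 2, 3, 4, 7, 0, 1, 2, 3, 4, 7, 8],
  [3, 4, 5, 6, 7, 3, 8, 7, 0, 1, 2, 3, 4, 7, 0, 1, 2, 3, 4, 7, 0, 1, 2, 3, 4, 7, 0, 1, 2, 3, 4, 7, 0, 1, 2, 3, 4, 7, 5, 4, 3, 7],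
  [3, 4, 5, 6, 7, 3, 4, 5, 8, 0, 1, 2, 3, 4, 7, 0, 1, 2, 3, 4, 7, 0, 1, 2, 3, 4, 7, 0, 1, 2, 3, 4, 7, 0, 1, 2, 3, 4, 7, 5, 4, 3, 7]]

/-- The product of the conjugates. -/
def prodWord : List ℕ := (uws.map fun u => u.reverse ++ [2] ++ u).flatten

/-- The words that are one. -/
def tests : List (List ℕ) := prodWord :: uws.map fun u => u ++ [0] ++ u.reverse ++ [0]

theorem test_0 : allFrom (fun k => fixesAll table k tests) 1170 0 = true := by decide +kernel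
theorem test_1170 : allFrom (fun k => fixesAll table k tests) 1170 1170 = true := by decide +kernel
theorem test_2340 : allFrom (fun k => fixesAll table k tests) 1170 2340 = true := by decide +kernel

theorem word_eq_one (l : List ℕ) (hl : l ∈ tests) : (l.map g).prod = 1 := by
  have h16 : ∀ x ∈ l, x < 16 := by revert l; decide +kernel
  have h := prod_eq_of_scan_eq table 18364758544493064720 ip_ok row_ok π g hinv hπ injective l [] h16 (by simp)
    fun k hk => by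
      rw [scan_nil]
      refine fixesAll_spec _ _ _ ?_ l hl
      by_cases h1 : k < 1170
      · exact allFrom_spec _ _ _ test_0 k (by omega) (by omega)
      by_cases h2 : k < 2340
      · exact allFrom_spec _ _ _ test_1170 k (by omega) (by omega)
      exact allFrom_spec _ _ _ test_2340 k (by omega) (by omega)
  simpa using h

end CfsgLib.SchurFi22.Heptad
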