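import Cfsg.Prelude.Def_KGroupFacts
import Cfsg.Agent.Lib.Schur.CoxeterCover
import Cfsg.Agent.Lib.Schur.Multiplier
import Cfsg.Agent.Lib.Weyl.E7
import Cfsg.Agent.Lib.Schur.FiTwentyTwo.Heptad
import Cfsg.Agent.Lib.Schur.FiTwentyTwo.Cube

set_option autoImplicit false
set_option linter.all false
set_option synthInstance.maxSize 4000
set_option synthInstance.maxHeartbeats 400000
set_option maxRecDepth 20000

/-!
Every finite stem extension of `Fi22` has kernel generated by two central elements, one squaring to one and the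
other cubing to one.
-/

namespace CfsgLib.SchurFi22

open CfsgLib.CosetEnum CfsgLib.Schur.CoxeterCover
open scoped commutatorElement

local notation "G" => Cfsg.Spor.Fi22
local notation "g" => CfsgLib.CosetEnum.Fi22.g

/-- The edges of `Y₃₃₂`. -/
def adj (i j : ℕ) : Bool :=
  decide ((i, j) ∈ [(0, 1), (1, 2), (2, 3), (3, 4), (4, 5), (5, 6), (3, 7), (7, 8)] ∨
    (j, i) ∈ [(0, 1), (1, 2), (2, 3), (3, 4), (4, 5), (5, 6), (3, 7), (7, 8)])

/-- The word `abcdefh` nine times. -/
def wA : List ℕ := (List.replicate 9 [0, 1, 2, 3, 4, 5, 7]).flatten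

/-- The word `bcdefgh` nine times. -/
def wB : List ℕ := (List.replicate 9 [1, 2, 3, 4, 5, 6, 7]).flatten

theorem g_sq {i : ℕ} (hi : i < 9) : g i * g i = 1 := by
  have h := (Fi22.lsWords [i, i] ((by decide : ∀ i < 9, [i, i] ∈ Fi22.ls) i hi)).2
  simpa using h

theorem g_comm {i j : ℕ} (hi : i < 9) (hj : j < 9) (hne : i ≠ j) (h : adj i j = false) : g i * g j = g j * g i := by
  have h1 := (Fi22.lsWords [i, j, i, j]
    ((by decide +kernel : ∀ i < 9, ∀ j < 9, i ≠ j → adj i j = false → [i, j, i, j] ∈ Fi22.ls) i hi j hj hne h)).2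
  simp only [List.map_cons, List.map_nil, List.prod_cons, List.prod_nil, mul_one] at h1
  have e1 : g i * g j * (g i * g j) = 1 := by rw [mul_assoc]; exact h1
  calc g i * g j = (g i * g j) * ((g i * g j) * (g j * g i)) := by
        rw [mul_assoc (g i) (g j) (g j * g i), ← mul_assoc (g j) (g j), g_sq hj, one_mul, g_sq hi, mul_one]
    _ = g j * g i := by rw [← mul_assoc, e1, one_mul]

theorem g_braid {i j : ℕ} (hi : i < 9) (hj : j < 9) (h : adj i j = true) : g i * g j * g i = g j * g i * g j := by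
  have h1 := (Fi22.lsWords [i, j, i, j, i, j]
    ((by decide +kernel : ∀ i < 9, ∀ j < 9, adj i j = true → [i, j, i, j, i, j] ∈ Fi22.ls) i hi j hj h)).2
  simp only [List.map_cons, List.map_nil, List.prod_cons, List.prod_nil, mul_one] at h1
  have e : (g i * g j * g i) * (g j * g i * g j) = 1 := by simp only [mul_assoc]; exact h1
  calc g i * g j * g i = (g i * g j * g i) * ((g j * g i * g j) * (g j * g i * g j)) := by
        have : (g j * g i * g j) * (g j * g i * g j) = 1 := by
          calc _ = g j * (g i * ((g j * g j) * g i)) * g j := by group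
            _ = 1 := by rw [g_sq hj, one_mul, g_sq hi, mul_one, g_sq hj]
        rw [this, mul_one]
    _ = g j * g i * g j := by rw [← mul_assoc, e, one_mul]

/-- The derivation of all commuting pairs from the pair `(0, 2)`. -/
def steps : List (ℕ × ℕ × ℕ) := [(2, 3, 0), (3, 4, 0), (3, 7, 0), (0, 1, 3), (4, 5, 0), (0, 1, 4), (7, 8, 0), (0, 1, 7),
  (5, 6, 0), (0, 1, 5), (1, 2, 4), (0, 1, 8), (1, 2, 7), (0, 1, 6), (1, 2, 5), (1, 2, 8), (1, 2, 6), (2, 3, 5),
  (2, 3, 8), (2, 3, 6), (3, 7, 5), (3, 4, 8), (3, 4, 6), (3, 7, 6), (7, 8, 5), (5, 4, 7), (7, 8, 6)]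

/-- One derivation step. -/
def step (L : List (ℕ × ℕ)) (p : ℕ × ℕ × ℕ) : List (ℕ × ℕ) :=
  if p.1 < 9 ∧ p.2.1 < 9 ∧ p.2.2 < 9 ∧ adj p.1 p.2.1 = true ∧ adj p.2.1 p.2.2 = false ∧ p.2.1 ≠ p.2.2 ∧
      adj p.1 p.2.2 = false ∧ p.1 ≠ p.2.2 ∧ ((p.1, p.2.2) ∈ L ∨ (p.2.2, p.1) ∈ L)
  then (p.2.1, p.2.2) :: L else L

theorem derived_all : ∀ i < 9, ∀ j < 9, i ≠ j → adj i j = false →
    (i, j) ∈ steps.foldl step [(0, 2)] ∨ (j, i) ∈ steps.foldl step [(0, 2)] := by decide +kernel

section lifts

variable {Γ : Type} [Group Γ] (σ : Γ →* G)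

/-- Facts about the lifts. -/
structure Good (x : ℕ → Γ) (z₀ : Γ) : Prop where
  map : ∀ i < 9, σ (x i) = g i
  out : ∀ i, 9 ≤ i → x i = 1
  sq : ∀ i < 9, x i * x i = z₀
  braid : ∀ i < 9, ∀ j < 9, adj i j = true → x i * x j * x i = x j * x i * x j

theorem exists_next (hs : Function.Surjective σ) (hc : ∀ a, σ a = 1 → ∀ b : Γ, Commute a b) {z₀ t : Γ} (i j : ℕ)
    (hi : i < 9) (hj : j < 9) (h : adj i j = true) (ht : σ t = g i) (hsq : t * t = z₀) :
    ∃ u : Γ, σ u = g j ∧ t * u * t = u * t * u ∧ u * u = z₀ := by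
  obtain ⟨u, h1, h2, h3⟩ := exists_braid_lift σ hc hs (t := t) (b := g j)
    (by rw [ht]; exact g_braid hi hj h) (by rw [map_mul, ht]; exact g_sq hi)
  exact ⟨u, h1, h2, h3.trans hsq⟩

theorem exists_good (hs : Function.Surjective σ) (hc : ∀ a, σ a = 1 → ∀ b : Γ, Commute a b) :
    ∃ (x : ℕ → Γ) (z₀ : Γ), Good σ x z₀ := by
  obtain ⟨a, ha⟩ := hs (g 0)
  obtain ⟨b, hb, qb, sb⟩ := exists_next σ hs hc 0 1 (by decide) (by decide) rfl ha rfl
  obtain ⟨c, hc', qc, sc⟩ := exists_next σ hs hc 1 2 (by decide) (by decide) rfl hb sb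
  obtain ⟨d, hd, qd, sd⟩ := exists_next σ hs hc 2 3 (by decide) (by decide) rfl hc' sc
  obtain ⟨e, he, qe, se⟩ := exists_next σ hs hc 3 4 (by decide) (by decide) rfl hd sd
  obtain ⟨f, hf, qf, sf⟩ := exists_next σ hs hc 4 5 (by decide) (by decide) rfl he se
  obtain ⟨k, hk, qk, sk⟩ := exists_next σ hs hc 5 6 (by decide) (by decide) rfl hf sf
  obtain ⟨h, hh, qh, sh⟩ := exists_next σ hs hc 3 7 (by decide) (by decide) rfl hd sd
  obtain ⟨i, hi, qi, si⟩ := exists_next σ hs hc 7 8 (by decide) (by decide) rfl hh sh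
  refine ⟨fun n => [a, b, c, d, e, f, k, h, i].getD n 1, a * a, ⟨?_, ?_, ?_, ?_⟩⟩
  · intro n hn
    interval_cases n <;> simpa
  · intro n hn
    exact List.getD_eq_default _ _ (by simpa using hn)
  · intro n hn
    interval_cases n <;> simpa
  · intro n hn m hm hnm
    interval_cases n <;> interval_cases m <;> simp [adj] at hnm ⊢ <;>
      first
      | assumption
      | (apply Eq.symm; assumption)

variable {x : ℕ → Γ} {z₀ : Γ} (hc : ∀ a, σ a = 1 → ∀ b : Γ, Commute a b) (hx : Good σ x z₀)

include hx in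
theorem map_word (l : List ℕ) (hl : ∀ i ∈ l, i < 9) : σ (l.map x).prod = (l.map g).prod := by
  rw [map_list_prod, List.map_map]
  exact congrArg _ (List.map_congr_left fun i hi => hx.map i (hl i hi))

include hc in
theorem comm_congr {A A' B B' : Γ} (ha : σ A = σ A') (hb : σ B = σ B') : ⁅A, B⁆ = ⁅A', B'⁆ := by
  have hz : A'⁻¹ * A ∈ Subgroup.center Γ :=
    Subgroup.mem_center_iff.mpr fun c => ((commute_div σ hc ha) c).eq.symm
  have hw : B'⁻¹ * B ∈ Subgroup.center Γ :=
    Subgroup.mem_center_iff.mpr fun c => ((commute_div σ hc hb) c).eq.symm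
  calc ⁅A, B⁆ = ⁅A' * (A'⁻¹ * A), B' * (B'⁻¹ * B)⁆ := by rw [mul_inv_cancel_left, mul_inv_cancel_left]
    _ = ⁅A', B'⁆ := Schur.commutatorElement_mul_center hz hw

include hc hx in
theorem z0_comm : ∀ b : Γ, Commute z₀ b := by
  refine hc z₀ ?_
  rw [← hx.sq 0 (by omega), map_mul, hx.map 0 (by omega)]
  exact g_sq (by omega)

theorem g_word_rev (l : List ℕ) (hl : ∀ i ∈ l, i < 9) : (l.map g).prod * (l.reverse.map g).prod = 1 := by
  induction l with
  | nil => simp
  | cons i r ih =>
    rw [List.reverse_cons, List.map_append, List.prod_append, List.map_cons, List.map_cons, List.prod_cons,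
      List.map_nil, List.prod_cons, List.prod_nil, mul_one]
    calc g i * (r.map g).prod * ((r.reverse.map g).prod * g i)
        = g i * ((r.map g).prod * (r.reverse.map g).prod) * g i := by group
      _ = 1 := by rw [ih fun j hj => hl j (List.mem_cons_of_mem _ hj), mul_one]; exact g_sq (hl i (by simp))

include hc hx in
theorem comm_base : Commute (x 0) (x 2) := by
  set e := ⁅x 0, x 2⁆ with he
  have h02 : σ (x 0) * σ (x 2) = σ (x 2) * σ (x 0) := by
    rw [hx.map 0 (by omega), hx.map 2 (by omega)]; exact g_comm (by omega) (by omega) (by omega) (by decide)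
  have hecen : ∀ b : Γ, Commute e b := hc e (map_commutator_eq_one σ h02)
  have e2 : e * e = 1 := by
    have h1 : ⁅x 0 * x 0, x 2⁆ = x 0 * ⁅x 0, x 2⁆ * (x 0)⁻¹ * ⁅x 0, x 2⁆ := by
      simp only [commutatorElement_def]; group
    rw [hx.sq 0 (by omega), commutatorElement_eq_one_iff_commute.mpr (z0_comm σ hc hx (x 2)), ← he,
      ← (hecen (x 0)).eq, mul_inv_cancel_right] at h1
    exact h1.symm
  -- every conjugate of `x 2` by an element commuting with `a` has the same commutator with `x 0`
  have hterm : ∀ u ∈ Heptad.uws, ⁅x 0, ((u.reverse ++ [2] ++ u).map x).prod⁆ = e := by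
    intro u hu
    have hu9 : ∀ i ∈ u, i < 9 := (by decide +kernel : ∀ u ∈ Heptad.uws, ∀ i ∈ u, i < 9) u hu
    have hr9 : ∀ i ∈ u.reverse, i < 9 := fun i hi => hu9 i (List.mem_reverse.mp hi)
    set U := (u.reverse.map x).prod
    have hU : σ U = (u.reverse.map g).prod := map_word σ hx _ hr9
    have hV : ((u.reverse.map g).prod)⁻¹ = (u.map g).prod := by
      refine inv_eq_of_mul_eq_one_right ?_
      simpa using g_word_rev u.reverse hr9
    have hcm : g 0 * (u.reverse.map g).prod = (u.reverse.map g).prod * g 0 := by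
      have h1 := Heptad.word_eq_one (u ++ [0] ++ u.reverse ++ [0])
        (List.mem_cons_of_mem _ (List.mem_map.mpr ⟨u, hu, rfl⟩))
      simp only [List.map_append, List.prod_append, List.map_cons, List.map_nil, List.prod_cons, List.prod_nil,
        mul_one] at h1
      rw [← hV] at h1
      set P := (u.reverse.map g).prod
      calc g 0 * P = (g 0 * P) * (P⁻¹ * g 0 * P * g 0) := by rw [h1, mul_one]
        _ = P * g 0 := by rw [show g 0 * P * (P⁻¹ * g 0 * P * g 0) = (g 0 * g 0) * P * g 0 by group,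
              g_sq (by omega), one_mul]
    have h1 : ⁅x 0, ((u.reverse ++ [2] ++ u).map x).prod⁆ = ⁅U * x 0 * U⁻¹, U * x 2 * U⁻¹⁆ := by
      refine comm_congr σ hc ?_ ?_
      · rw [map_mul, map_mul, map_inv, hU, hx.map 0 (by omega), ← hcm, mul_inv_cancel_right]
      · rw [map_word σ hx _ (by
            simp only [List.mem_append, List.mem_singleton]
            rintro i ((hi | rfl) | hi)
            exacts [hr9 i hi, by omega, hu9 i hi]), map_mul, map_mul, map_inv, hU, hx.map 2 (by omega), hV]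
        simp only [List.map_append, List.prod_append, List.map_cons, List.map_nil, List.prod_cons, List.prod_nil,
          mul_one]
    rw [h1, ← conjugate_commutatorElement, ← he, ← (hecen U).eq, mul_inv_cancel_right]
  have hprod : ∀ L : List (List ℕ), (∀ u ∈ L, u ∈ Heptad.uws) →
      ⁅x 0, (((L.map fun u => u.reverse ++ [2] ++ u).flatten).map x).prod⁆ = e ^ L.length := by
    intro L
    induction L with
    | nil => intro _; simp
    | cons u r ih =>
      intro hL
      rw [List.map_cons, List.flatten_cons, List.map_append, List.prod_append, List.length_cons, pow_succ']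
      set A := ((u.reverse ++ [2] ++ u).map x).prod
      set B := (((r.map fun u => u.reverse ++ [2] ++ u).flatten).map x).prod
      have h1 : ⁅x 0, A * B⁆ = ⁅x 0, A⁆ * (A * ⁅x 0, B⁆ * A⁻¹) := by
        simp only [commutatorElement_def]; group
      rw [h1, hterm u (hL u (by simp)), ih fun v hv => hL v (List.mem_cons_of_mem _ hv),
        ← ((hecen A).pow_left r.length).eq, mul_inv_cancel_right]
  have h7 : e ^ 7 = 1 := by
    have h := hprod Heptad.uws fun _ h => h
    have hz : σ ((Heptad.prodWord.map x).prod) = 1 := by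
      rw [map_word σ hx _ (by decide +kernel)]
      exact Heptad.word_eq_one _ (List.mem_cons_self ..)
    rw [← Heptad.prodWord, commutatorElement_eq_one_iff_commute.mpr ((hc _ hz) (x 0)).symm,
      show Heptad.uws.length = 7 from by decide] at h
    exact h.symm
  have he1 : e = 1 := by
    rw [show 7 = 2 * 3 + 1 from rfl, pow_succ, pow_mul, pow_two, e2, one_pow, one_mul] at h7
    exact h7
  exact commutatorElement_eq_one_iff_commute.mp he1

include hc hx in
theorem comm_all {i j : ℕ} (hi : i < 9) (hj : j < 9) (hne : i ≠ j) (h : adj i j = false) : Commute (x i) (x j) := by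
  have key : ∀ (S : List (ℕ × ℕ × ℕ)) (L : List (ℕ × ℕ)), (∀ p ∈ L, Commute (x p.1) (x p.2)) →
      ∀ p ∈ S.foldl step L, Commute (x p.1) (x p.2) := by
    intro S
    induction S with
    | nil => exact fun L hL => hL
    | cons s r ih =>
      intro L hL
      rw [List.foldl_cons]
      refine ih _ fun p hp => ?_
      obtain ⟨a, k, b⟩ := s
      rw [step] at hp
      split_ifs at hp with hcond
      · obtain ⟨ha, hk, hb, hak, hkb, hkbne, hab, habne, hmem⟩ := hcond
        rcases List.mem_cons.mp hp with rfl | hp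
        · have hC : Commute (x a) (x b) := hmem.elim (fun h => hL _ h) (fun h => (hL _ h).symm)
          rw [← commutatorElement_eq_one_iff_commute,
            commutator_transfer σ hc (hx.braid a ha k hk hak)
              (by rw [hx.map a ha, hx.map b hb]; exact g_comm ha hb habne hab)
              (by rw [hx.map k hk, hx.map b hb]; exact g_comm hk hb hkbne hkb),
            commutatorElement_eq_one_iff_commute]
          exact hC
        · exact hL p hp
      · exact hL p hp
  have hbase : ∀ p ∈ [(0, 2)], Commute (x (p : ℕ × ℕ).1) (x p.2) := by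
    intro p hp; rw [List.mem_singleton] at hp; subst hp; exact comm_base σ hc hx
  rcases derived_all i hi j hj hne h with h1 | h1
  · exact key _ _ hbase _ h1
  · exact (key _ _ hbase _ h1).symm

include hc hx in
/-- The centre of a lifted Weyl group of type `E₇`. -/
theorem seven_sq (m : Fin 7 → ℕ) (hm : ∀ i, m i < 9 ∧ ∀ j, i ≠ j → m i ≠ m j)
    (hM : ∀ i j : Fin 7, (decide (i = j) ||
      decide (CoxeterMatrix.E₇.M i j = bif adj (m i) (m j) then 3 else 2)) = true)
    (cw : List (Fin 7)) (hlen : cw.length = 7)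
    (hord : CfsgLib.Weyl.orderTest CfsgLib.Weyl.E7.cartan cw 18 = true) :
    (((List.replicate 9 (cw.map m)).flatten).map x).prod * (((List.replicate 9 (cw.map m)).flatten).map x).prod
      = z₀ ^ 63 := by
  set M := CoxeterMatrix.E₇
  have hmat : ∀ i j : Fin 7, i ≠ j → (M i j = 2 ∧ adj (m i) (m j) = false) ∨ (M i j = 3 ∧ adj (m i) (m j) = true) := by
    intro i j h
    have h1 := hM i j
    simp only [Bool.or_eq_true, decide_eq_true_eq, h, false_or] at h1
    cases ha : adj (m i) (m j) <;> rw [ha] at h1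
    · exact Or.inl ⟨h1, rfl⟩
    · exact Or.inr ⟨h1, rfl⟩
  have hz := z0_comm σ hc hx
  have hR : CfsgLib.Schur.CoxeterCover.Rels M (fun i => x (m i)) z₀ 1 := by
    refine ⟨fun i j hij => (hmat i j hij).elim (fun h => Or.inl h.1) (fun h => Or.inr h.1), hz,
      fun b => Commute.one_left b, fun i => hx.sq _ (hm i).1, fun i j h => ?_, fun i j h => ?_⟩
    · have hij : i ≠ j := by rintro rfl; rw [M.diagonal] at h; omega
      rcases hmat i j hij with ⟨-, ha⟩ | ⟨h3, -⟩
      · rw [one_mul]
        exact (comm_all σ hc hx (hm i).1 (hm j).1 ((hm i).2 j hij) ha).eq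
      · rw [h] at h3; omega
    · have hij : i ≠ j := by rintro rfl; rw [M.diagonal] at h; omega
      rcases hmat i j hij with ⟨h2, -⟩ | ⟨-, ha⟩
      · rw [h] at h2; omega
      · exact hx.braid _ (hm i).1 _ (hm j).1 ha
  have hN := relSubgroup_normal (z := z₀) (c := (1 : Γ)) hz (fun b => Commute.one_left b)
  let ψ := M.toCoxeterSystem.lift ⟨_, isLiftable hR⟩
  set N := relSubgroup z₀ (1 : Γ)
  have hψ : ∀ i, ψ (M.simple i) = QuotientGroup.mk' N (x (m i), Multiplicative.ofAdd (1 : ℤ)) := fun i =>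
    M.toCoxeterSystem.lift_apply_simple (isLiftable hR) i
  have hwp : ∀ l : List (Fin 7), ψ (CfsgLib.Weyl.wp M l) =
      QuotientGroup.mk' N (((l.map m).map x).prod, Multiplicative.ofAdd (l.length : ℤ)) := by
    intro l
    induction l with
    | nil => simp only [CfsgLib.Weyl.wp, List.map_nil, List.prod_nil, map_one]; exact (map_one _).symm
    | cons i r ih =>
      have e : CfsgLib.Weyl.wp M (i :: r) = M.simple i * CfsgLib.Weyl.wp M r := by
        simp [CfsgLib.Weyl.wp]
      rw [e, map_mul, ih, hψ, ← map_mul]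
      congr 1
      refine Prod.ext rfl ?_
      show Multiplicative.ofAdd (1 : ℤ) * Multiplicative.ofAdd (r.length : ℤ) = _
      rw [← ofAdd_add, List.length_cons]
      push_cast
      rw [add_comm]
  have h18 := congrArg ψ (pow_orderOf_eq_one (CfsgLib.Weyl.wp M cw))
  rw [CfsgLib.Weyl.orderOf_wp CfsgLib.Weyl.E7.card_and_faithful.2.2 cw 18 hord, map_pow, hwp, map_one, ← map_pow,
    hlen] at h18
  set W := (((List.replicate 9 (cw.map m)).flatten).map x).prod
  have hmem : (W * W, Multiplicative.ofAdd (126 : ℤ)) ∈ N := by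
    have h := (QuotientGroup.eq_one_iff _).mp h18
    convert h using 1
    refine Prod.ext ?_ rfl
    show _ = ((cw.map m).map x).prod ^ 18
    simp only [W, List.map_flatten, List.map_replicate, List.prod_flatten, List.prod_replicate]
    rw [← pow_add]
  have hzm : ((z₀, Multiplicative.ofAdd (2 : ℤ)) : Γ × Multiplicative ℤ) ∈ N :=
    Subgroup.subset_closure (Or.inl rfl)
  have h2 : ((W * W) * (z₀ ^ 63)⁻¹, (1 : Multiplicative ℤ)) ∈ N := by
    convert mul_mem hmem (inv_mem (pow_mem hzm 63)) using 1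
    exact Prod.ext rfl rfl
  have h3 := mem_zpowers_of_mem_relSubgroup hz h2
  rw [Subgroup.zpowers_one_eq_bot, Subgroup.mem_bot] at h3
  exact mul_inv_eq_one.mp h3

end lifts

variable {Γ : Type} [Group Γ] (σ : Γ →* G)

/-- The kernel of a finite stem extension. -/
theorem ker_generated [Finite Γ] (hσ : Cfsg.IsStemExtension σ) :
    ∃ β s : Γ, β ^ 2 = 1 ∧ s ^ 3 = 1 ∧ σ β = 1 ∧ σ s = 1 ∧ σ.ker ≤ Subgroup.closure {β, s} := by
  obtain ⟨hs, hcen, hder⟩ := hσ
  have hc : ∀ a, σ a = 1 → ∀ b : Γ, Commute a b := fun a ha b =>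
    (Subgroup.mem_center_iff.mp (hcen (MonoidHom.mem_ker.mpr ha)) b).symm
  obtain ⟨x, z₀, hx⟩ := exists_good σ hs hc
  have hz := z0_comm σ hc hx
  set W := (wA.map x).prod
  have hσW : σ W = 1 := by
    rw [map_word σ hx wA (by decide)]
    exact (Fi22.lsWords wA (by decide +kernel)).2
  have hW : ∀ b, Commute W b := hc W hσW
  have hW2 : W * W = z₀ ^ 63 :=
    seven_sq σ hc hx ![5, 7, 4, 3, 2, 1, 0] (by decide) (by decide) [6, 5, 4, 3, 2, 0, 1] rfl (by decide +kernel)
  have hV2 : (wB.map x).prod * (wB.map x).prod = z₀ ^ 63 :=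
    seven_sq σ hc hx ![1, 7, 2, 3, 4, 5, 6] (by decide) (by decide) [0, 2, 3, 4, 5, 6, 1] rfl (by decide +kernel)
  set t := W * (z₀ ^ 31)⁻¹ with ht
  have htc : ∀ b, Commute t b := fun b => (hW b).mul_left ((hz b).pow_left 31).inv_left
  have ht2 : t * t = z₀ := by
    calc t * t = W * W * ((z₀ ^ 31)⁻¹ * (z₀ ^ 31)⁻¹) := by
          rw [ht, mul_assoc W, ← mul_assoc ((z₀ ^ 31)⁻¹), ← (hW (z₀ ^ 31)⁻¹).eq]; group
      _ = z₀ := by rw [hW2]; group
  have hσt : σ t = 1 := by
    rw [ht, map_mul, hσW, one_mul, map_inv, map_pow, ← hx.sq 0 (by omega), map_mul, hx.map 0 (by omega),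
      g_sq (by omega), one_pow, inv_one]
  set y : ℕ → Γ := fun i => if i < 9 then x i * t⁻¹ else 1 with hy
  have hyi : ∀ i < 9, y i = x i * t⁻¹ := fun i hi => if_pos hi
  have hsq : ∀ i < 9, y i * y i = 1 := fun i hi => by
    rw [hyi i hi]
    calc x i * t⁻¹ * (x i * t⁻¹) = x i * (x i * t⁻¹) * t⁻¹ := by
          rw [mul_assoc (x i), ((htc _).inv_left).eq, ← mul_assoc]
      _ = (x i * x i) * (t * t)⁻¹ := by group
      _ = 1 := by rw [hx.sq i hi, ht2, mul_inv_cancel]
  have hbr : ∀ i < 9, ∀ j < 9, adj i j = true → y i * y j * y i = y j * y i * y j := fun i hi j hj h => by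
    rw [hyi i hi, hyi j hj]
    have key : ∀ a b : Γ, a * t⁻¹ * (b * t⁻¹) * (a * t⁻¹) = a * b * a * (t⁻¹ * t⁻¹ * t⁻¹) := by
      intro a b
      calc a * t⁻¹ * (b * t⁻¹) * (a * t⁻¹) = a * (t⁻¹ * b) * ((t⁻¹ * a) * t⁻¹) := by group
        _ = a * (b * t⁻¹) * ((a * t⁻¹) * t⁻¹) := by rw [((htc b).inv_left).eq, ((htc a).inv_left).eq]
        _ = a * b * (t⁻¹ * a) * (t⁻¹ * t⁻¹) := by group
        _ = _ := by rw [((htc a).inv_left).eq]; group
    rw [key, key, hx.braid i hi j hj h]
  have hcm : ∀ i < 9, ∀ j < 9, i ≠ j → adj i j = false → Commute (y i) (y j) := fun i hi j hj hne h => by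
    rw [hyi i hi, hyi j hj]
    exact ((comm_all σ hc hx hi hj hne h).mul_right ((htc (x i)).inv_left).symm).mul_left
      ((htc _).inv_left)
  have hprod : ∀ l : List ℕ, (∀ i ∈ l, i < 9) → (l.map y).prod = (l.map x).prod * t⁻¹ ^ l.length := by
    intro l
    induction l with
    | nil => intro _; simp
    | cons i r ih =>
      intro hl
      rw [List.map_cons, List.prod_cons, ih fun j hj => hl j (List.mem_cons_of_mem _ hj), hyi i (hl i (by simp)),
        List.map_cons, List.prod_cons, List.length_cons, pow_succ']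
      calc x i * t⁻¹ * ((r.map x).prod * t⁻¹ ^ r.length) = x i * (t⁻¹ * (r.map x).prod) * t⁻¹ ^ r.length := by group
        _ = x i * ((r.map x).prod * t⁻¹) * t⁻¹ ^ r.length := by rw [((htc _).inv_left).eq]
        _ = _ := by group
  have hym : ∀ i < 9, σ (y i) = g i := fun i hi => by
    rw [hyi i hi, map_mul, map_inv, hσt, inv_one, mul_one, hx.map i hi]
  have hσw : ∀ l : List ℕ, (∀ i ∈ l, i < 9) → σ (l.map y).prod = (l.map g).prod := fun l hl => by
    rw [map_list_prod, List.map_map]
    exact congrArg _ (List.map_congr_left fun i hi => hym i (hl i hi))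
  have h15 : y 15 = 1 := if_neg (by omega)
  have hinv : ∀ i < 16, y (linv 18364758544493064720 i) = (y i)⁻¹ := fun i hi => by
    rw [Fi22.linv_eq i hi]
    by_cases h : i < 9
    · exact (inv_eq_of_mul_eq_one_right (hsq i h)).symm
    · simp [hy, if_neg h]
  have hcox : ∀ i < 9, ∀ j < 9, ([i, j].map y).prod ^ (if i = j then 1 else if adj i j then 3 else 2) = 1 := by
    intro i hi j hj
    simp only [List.map_cons, List.map_nil, List.prod_cons, List.prod_nil, mul_one]
    split_ifs with h1 h2
    · rw [pow_one, ← h1]; exact hsq i hi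
    · calc (y i * y j) ^ 3 = (y i * y j * y i) * (y j * y i * y j) := by
            simp only [pow_succ, pow_zero, one_mul, mul_assoc]
        _ = (y i * y j * y i) * (y i * y j * y i) := by rw [hbr i hi j hj h2]
        _ = y i * (y j * ((y i * y i) * y j)) * y i := by group
        _ = 1 := by rw [hsq i hi, one_mul, hsq j hj, mul_one, hsq i hi]
    · have h2' : adj i j = false := by simpa using h2
      rw [(hcm i hi j hj h1 h2').mul_pow, pow_two, pow_two, hsq i hi, hsq j hj, one_mul]
  have hcoxw : ∀ l, (∃ i, i < 9 ∧ ∃ j, j < 9 ∧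
      l = (List.replicate (if i = j then 1 else if adj i j then 3 else 2) [i, j]).flatten) →
      (∀ a ∈ l, a < 16) ∧ (l.map y).prod = 1 := by
    rintro l ⟨i, hi, j, hj, rfl⟩
    refine ⟨fun a ha => ?_, ?_⟩
    · simp only [List.mem_flatten, List.mem_replicate] at ha
      obtain ⟨l', ⟨-, rfl⟩, ha⟩ := ha
      simp only [List.mem_cons, List.not_mem_nil, or_false] at ha
      omega
    · rw [List.map_flatten, List.map_replicate, List.prod_flatten, List.map_replicate, List.prod_replicate]
      exact hcox i hi j hj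
  have hrev : ∀ l : List ℕ, (∀ i ∈ l, i < 9) → (l.map y).prod * (l.reverse.map y).prod = 1 := by
    intro l
    induction l with
    | nil => simp
    | cons i r ih =>
      intro hl
      rw [List.reverse_cons, List.map_append, List.prod_append, List.map_cons, List.map_cons, List.prod_cons,
        List.map_nil, List.prod_cons, List.prod_nil, mul_one]
      calc y i * (r.map y).prod * ((r.reverse.map y).prod * y i)
          = y i * ((r.map y).prod * (r.reverse.map y).prod) * y i := by group
        _ = 1 := by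
          rw [ih fun j hj => hl j (List.mem_cons_of_mem _ hj), mul_one]; exact hsq i (hl i (by simp))
  have hA1 : (wA.map y).prod = 1 := by
    rw [hprod wA (by decide), show wA.length = 63 from by decide, show (63 : ℕ) = 2 * 31 + 1 from rfl, pow_succ,
      pow_mul, pow_two, ← mul_inv_rev, ht2, inv_pow, ← mul_inv_rev]
    exact mul_inv_eq_one.mpr (by rw [ht, inv_mul_cancel_right])
  set β := (wB.map y).prod with hβ
  set s := (sw.map y).prod with hsdef
  have hσβ : σ β = 1 := by rw [hσw wB (by decide)]; exact (Fi22.lsWords wB (by decide +kernel)).2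
  have hσs : σ s = 1 := by rw [hσw sw (by decide +kernel)]; exact (Fi22.lsWords sw (by decide +kernel)).2
  have hβ2 : β ^ 2 = 1 := by
    have hβc := hc β hσβ
    rw [hβ, hprod wB (by decide), show wB.length = 63 from by decide]
    have hcm' : Commute ((wB.map x).prod) (t⁻¹ ^ 63) := ((htc _).inv_left.pow_left 63).symm
    rw [hcm'.mul_pow, pow_two, hV2, ← pow_mul, show 63 * 2 = 2 * 63 from rfl, pow_mul, pow_two, ← mul_inv_rev, ht2,
      inv_pow, mul_inv_cancel]
  have hK : Rels lsK y := by
    refine ⟨h15, hinv, fun l hl => ?_⟩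
    rcases (by decide +kernel : ∀ l ∈ lsK, (∃ i, i < 9 ∧ ∃ j, j < 9 ∧
        l = (List.replicate (if i = j then 1 else if adj i j then 3 else 2) [i, j]).flatten) ∨
        ∃ k, k < 9 ∧ l = sw ++ [k] ++ sw.reverse ++ [k]) l hl with h | ⟨k, hk, rfl⟩
    · exact hcoxw l h
    · refine ⟨?_, ?_⟩
      · simp only [List.mem_append, List.mem_singleton, List.mem_reverse]
        have h16 : ∀ a ∈ sw, a < 16 := by decide +kernel
        rintro a (((ha | rfl) | ha) | rfl)
        exacts [h16 a ha, by omega, h16 a ha, by omega]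
      · simp only [List.map_append, List.prod_append, List.map_cons, List.map_nil, List.prod_cons, List.prod_nil,
          mul_one]
        rw [(hc s hσs (y k)).eq, mul_assoc (y k), hrev sw (by decide +kernel), mul_one]
        exact hsq k hk
  have hs3 : s ^ 3 = 1 := by
    have h := spider_cube hK
    rw [List.map_append, List.map_append, List.prod_append, List.prod_append, ← hsdef] at h
    rw [pow_succ, pow_two]; exact h
  refine ⟨β, s, hβ2, hs3, hσβ, hσs, ?_⟩
  set N := Subgroup.closure {β, s}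
  have hNc : ∀ a ∈ N, ∀ b, Commute a b := by
    have hN1 : N ≤ σ.ker := by
      rw [Subgroup.closure_le]
      rintro a (rfl | rfl) <;> assumption
    exact fun a ha b => hc a (MonoidHom.mem_ker.mp (hN1 ha)) b
  haveI : N.Normal := ⟨fun a ha b => by rw [← (hNc a ha b).eq, mul_inv_cancel_right]; exact ha⟩
  let π := QuotientGroup.mk' N
  let φ0 : FreeGroup Cfsg.Spor.Fi22.Gen →* Γ ⧸ N := FreeGroup.lift fun c => π (y (Fi22.idx c))
  have hφ0 : ∀ i < 16, φ0 (Fi22.gF i) = π (y i) := by
    intro i hi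
    interval_cases i
    all_goals first
      | exact FreeGroup.lift_apply_of
      | (rw [show y _ = 1 from if_neg (by omega), map_one]; exact map_one φ0)
  have hrel : ∀ r ∈ Cfsg.Spor.coxRelators Cfsg.Spor.Fi22.edges ∪ {r | r ∈ Cfsg.Spor.Fi22.extra}, φ0 r = 1 := by
    refine Fi22.translation.relator_eq_one φ0 (fun i hi => ?_) (fun l hl => ?_)
    · rw [hφ0 i hi, hφ0 _ (linv_lt _ _), hinv i hi, map_inv]
    · rw [List.map_congr_left (fun i hi => hφ0 i ((Fi22.lsWords l hl).1 i hi))]
      rw [show (l.map fun i => π (y i)).prod = π (l.map y).prod by rw [map_list_prod, List.map_map]; rfl]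
      rcases (by decide +kernel : ∀ l ∈ Fi22.ls, (∃ i, i < 9 ∧ ∃ j, j < 9 ∧
          l = (List.replicate (if i = j then 1 else if adj i j then 3 else 2) [i, j]).flatten) ∨
          l = wA ∨ l = wB ∨ l = sw) l hl with h | rfl | rfl | rfl
      · rw [(hcoxw l h).2, map_one]
      · rw [hA1, map_one]
      · exact (QuotientGroup.eq_one_iff _).mpr (Subgroup.subset_closure (Or.inl rfl))
      · exact (QuotientGroup.eq_one_iff _).mpr (Subgroup.subset_closure (Or.inr rfl))
  let φ : G →* Γ ⧸ N := PresentedGroup.toGroup hrel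
  have hφg : ∀ i < 9, φ (g i) = π (y i) := by
    intro i hi
    rw [← hφ0 i (by omega)]
    interval_cases i <;> exact (PresentedGroup.toGroup.of hrel).trans FreeGroup.lift_apply_of.symm
  -- the generated subgroup together with `N` is everything
  set K := Subgroup.closure {b | ∃ i < 9, b = y i} ⊔ N
  have hmap : K.map σ = ⊤ := by
    refine eq_top_iff.mpr (Fi22.translation.closure_top.trans ((Subgroup.closure_le _).mpr ?_))
    rintro _ ⟨i, hi, rfl⟩
    rcases Fi22.gen_or_one i hi with h | h
    · exact ⟨y i, Subgroup.mem_sup_left (Subgroup.subset_closure ⟨i, h, rfl⟩), hym i h⟩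
    · show g i ∈ K.map σ
      rw [h]; exact one_mem _
  have hdec : ∀ b : Γ, ∃ k ∈ K, ∀ c, Commute (k⁻¹ * b) c := fun b => by
    obtain ⟨k, hk, hkb⟩ : σ b ∈ K.map σ := by rw [hmap]; exact Subgroup.mem_top _
    exact ⟨k, hk, hc _ (by rw [map_mul, map_inv, hkb, inv_mul_cancel])⟩
  have hle : _root_.commutator Γ ≤ K := by
    rw [commutator_def, Subgroup.commutator_le]
    intro a _ b _
    obtain ⟨k, hk, hka⟩ := hdec a
    obtain ⟨m, hm, hmb⟩ := hdec b
    have e : ⁅a, b⁆ = ⁅k, m⁆ := by
      calc ⁅a, b⁆ = ⁅k * (k⁻¹ * a), m * (m⁻¹ * b)⁆ := by rw [mul_inv_cancel_left, mul_inv_cancel_left]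
        _ = ⁅k, m⁆ := Schur.commutatorElement_mul_center
            (Subgroup.mem_center_iff.mpr fun c => (hka c).eq.symm)
            (Subgroup.mem_center_iff.mpr fun c => (hmb c).eq.symm)
    rw [e, commutatorElement_def]
    exact mul_mem (mul_mem (mul_mem hk hm) (inv_mem hk)) (inv_mem hm)
  intro a ha
  have haK : a ∈ K := hle (hder ha)
  have hφσ : ∀ b ∈ K, φ (σ b) = π b := by
    intro b hb
    refine (sup_le ?_ ?_ : K ≤ (φ.comp σ).eqLocus π) hb
    · rw [Subgroup.closure_le]
      rintro _ ⟨i, hi, rfl⟩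
      show φ (σ (y i)) = π (y i)
      rw [hym i hi, hφg i hi]
    · intro b hb
      show φ (σ b) = π b
      have : σ b = 1 := by
        have hN1 : N ≤ σ.ker := by
          rw [Subgroup.closure_le]
          rintro c (rfl | rfl) <;> assumption
        exact MonoidHom.mem_ker.mp (hN1 hb)
      rw [this, map_one]
      exact ((QuotientGroup.eq_one_iff _).mpr hb).symm
  have := hφσ a haK
  rw [MonoidHom.mem_ker.mp ha, map_one] at this
  exact (QuotientGroup.eq_one_iff _).mp this.symm

end CfsgLib.SchurFi22
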