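import Cfsg.Prelude.Def_KGroupFacts
import Cfsg.Agent.Lib.CosetEnum.Fi22.Exact
import Cfsg.Agent.Lib.Schur.FiTwentyTwo.LinData

set_option autoImplicit false
set_option linter.all false
set_option maxRecDepth 20000

/-! A perfect central extension of `Fi22` with kernel of order three. -/

namespace CfsgLib.SchurFi22.Mono

open CfsgLib.CosetEnum

local notation "G" => Cfsg.Spor.Fi22
local notation "g" => CfsgLib.CosetEnum.Fi22.g

theorem app_cons (c : ℕ) (m : List ℕ) (v : ℕ) :
    app (c :: m) v = if v % 2 = 1 then c ^^^ app m (v / 2) else app m (v / 2) := by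
  show strict (app m (v / 2)) (fun r => Bool.rec (motive := fun _ => ℕ) r (Nat.xor c r) (Nat.beq (v % 2) 1)) = _
  rw [strict_eq]
  by_cases h : v % 2 = 1
  · rw [if_pos h, h]; rfl
  · rw [if_neg h, show v % 2 = 0 by omega]; rfl

theorem app_xor : ∀ (m : List ℕ) (u v : ℕ), app m (u ^^^ v) = app m u ^^^ app m v := by
  intro m
  induction m with
  | nil => intro u v; exact (Nat.xor_self 0).symm
  | cons c r ih =>
    intro u v
    rw [app_cons, app_cons, app_cons, Nat.xor_div_two, ih]
    have hx : (u ^^^ v) % 2 = (u % 2 + v % 2) % 2 := by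
      rw [show (2 : ℕ) = 2 ^ 1 from rfl, Nat.xor_mod_two_pow]
      rcases Nat.mod_two_eq_zero_or_one u with h | h <;> rcases Nat.mod_two_eq_zero_or_one v with h' | h' <;>
        simp only [Nat.pow_one, h, h'] <;> rfl
    rw [hx]
    rcases Nat.mod_two_eq_zero_or_one u with h | h <;> rcases Nat.mod_two_eq_zero_or_one v with h' | h' <;>
      simp [h, h', Nat.xor_assoc, Nat.xor_left_comm, Nat.xor_comm]

theorem app_lt : ∀ (m : List ℕ), (∀ c ∈ m, c < 2 ^ 54) → ∀ v, app m v < 2 ^ 54 := by
  intro m
  induction m with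
  | nil => intro _ v; exact Nat.two_pow_pos 54
  | cons c r ih =>
    intro h v
    have h1 := ih (fun d hd => h d (List.mem_cons_of_mem _ hd)) (v / 2)
    rw [app_cons]
    split
    · exact Nat.xor_lt_two_pow (h c (by simp)) h1
    · exact h1

theorem app_zero (m : List ℕ) : app m 0 = 0 := by
  induction m with
  | nil => rfl
  | cons c r ih => rw [app_cons, if_neg (by omega), Nat.zero_div, ih]

/-- An additive map is determined on basis vectors. -/
theorem ext_basis (f f' : ℕ → ℕ) (hf : ∀ u v, f (u ^^^ v) = f u ^^^ f v) (hf' : ∀ u v, f' (u ^^^ v) = f' u ^^^ f' v)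
    (h : ∀ j < 54, f (2 ^ j) = f' (2 ^ j)) : ∀ v < 2 ^ 54, f v = f' v := by
  have h0 : ∀ q : ℕ → ℕ, (∀ u v, q (u ^^^ v) = q u ^^^ q v) → q 0 = 0 := fun q hg => by
    have := hg 0 0
    simpa using this
  have key : ∀ n ≤ 54, ∀ v < 2 ^ n, f v = f' v := by
    intro n
    induction n with
    | zero =>
      intro _ v hv
      rw [show v = 0 by simpa using hv, h0 f hf, h0 f' hf']
    | succ k ih =>
      intro hk v hv
      by_cases hlt : v < 2 ^ k
      · exact ih (by omega) v hlt
      · have e : v = (v - 2 ^ k) ^^^ 2 ^ k := by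
          have hw : v - 2 ^ k < 2 ^ k := by rw [pow_succ] at hv; omega
          have h1 : 2 ^ k * 1 + (v - 2 ^ k) = (2 ^ k * 1) ^^^ (v - 2 ^ k) := by
            refine Nat.eq_of_testBit_eq fun i => ?_
            rw [Nat.testBit_xor, Nat.testBit_two_pow_mul_add _ hw, Nat.testBit_two_pow_mul]
            by_cases hi : i < k
            · simp [hi, Nat.not_le.mpr hi]
            · simp [hi, Nat.not_lt.mp hi, Nat.testBit_lt_two_pow (lt_of_lt_of_le hw (Nat.pow_le_pow_right (by omega) (Nat.not_lt.mp hi)))]
          rw [Nat.mul_one] at h1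
          rw [Nat.xor_comm, ← h1]; omega
        rw [e, hf, hf', ih (by omega) _ (by rw [pow_succ] at hv; omega), h k (by omega)]
  exact key 54 le_rfl

theorem mats_lt (x : ℕ) : ∀ c ∈ mats.getD x [], c < 2 ^ 54 := by
  intro c hc
  rcases Nat.lt_or_ge x mats.length with hx | hx
  · rw [List.getD_eq_getElem _ _ hx] at hc
    have h := List.all_eq_true.mp cols_lt mats[x] (List.mem_cons_of_mem _ (List.getElem_mem hx))
    simp only [Bool.and_eq_true, List.all_eq_true, decide_eq_true_eq] at h
    exact h.2 c hc
  · rw [List.getD_eq_default _ _ hx] at hc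
    simp at hc

theorem omega_lt : ∀ c ∈ omega, c < 2 ^ 54 := by
  intro c hc
  have h := List.all_eq_true.mp cols_lt omega (List.mem_cons_self ..)
  simp only [Bool.and_eq_true, List.all_eq_true, decide_eq_true_eq] at h
  exact h.2 c hc

theorem appWord_cons (x : ℕ) (l : List ℕ) (v : ℕ) : appWord (x :: l) v = app (mats.getD x []) (appWord l v) := by
  show strict (appWord l v) (fun w => app (mats.getD x []) w) = _
  rw [strict_eq]

theorem appWord_xor (l : List ℕ) : ∀ u v, appWord l (u ^^^ v) = appWord l u ^^^ appWord l v := by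
  induction l with
  | nil => intro u v; rfl
  | cons x r ih => intro u v; rw [appWord_cons, appWord_cons, appWord_cons, ih, app_xor]

theorem rels_basis {l : List ℕ} (hl : l ∈ lsT) {j : ℕ} (hj : j < 54) : appWord l (2 ^ j) = 2 ^ j := by
  have h : testRels j = true := by
    by_cases h1 : j < 18
    · exact allFrom_spec _ _ _ rels_0 j (by omega) (by omega)
    by_cases h2 : j < 36
    · exact allFrom_spec _ _ _ rels_18 j (by omega) (by omega)
    exact allFrom_spec _ _ _ rels_36 j (by omega) (by omega)
  unfold testRels at h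
  have key : ∀ ls : List (List ℕ), List.rec (motive := fun _ => Bool) true
      (fun l _ ih => Nat.beq (appWord l (2 ^ j)) (2 ^ j) && ih) ls = true → ∀ m ∈ ls, appWord m (2 ^ j) = 2 ^ j := by
    intro ls
    induction ls with
    | nil => simp
    | cons a r ih =>
      intro h m hm
      simp only [Bool.and_eq_true] at h
      rcases List.mem_cons.mp hm with rfl | hm
      · exact Nat.eq_of_beq_eq_true h.1
      · exact ih h.2 m hm
  exact key _ h l hl

theorem letters_basis {j : ℕ} (hj : j < 54) :
    (∀ x < 9, app (mats.getD x []) (app omega (2 ^ j)) = app omega (app (mats.getD x []) (2 ^ j))) ∧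
      app omega (app omega (app omega (2 ^ j))) = 2 ^ j ∧ app omega (appWord sw (2 ^ j)) = 2 ^ j := by
  have h := allFrom_spec _ _ _ letters_ok j (Nat.zero_le _) (by omega)
  unfold testLetters at h
  simp only [Bool.and_eq_true] at h
  exact ⟨fun x hx => Nat.eq_of_beq_eq_true (allFrom_spec _ _ _ h.1.1 x (Nat.zero_le _) (by omega)),
    Nat.eq_of_beq_eq_true h.1.2, Nat.eq_of_beq_eq_true h.2⟩

/-- The vectors. -/
abbrev V : Type := Fin (2 ^ 54)

theorem letter_invol {x : ℕ} (hx : x < 9) : ∀ v < 2 ^ 54, app (mats.getD x []) (app (mats.getD x []) v) = v := by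
  refine ext_basis (fun v => app (mats.getD x []) (app (mats.getD x []) v)) (fun v => v)
    (fun u v => by rw [app_xor, app_xor]) (fun _ _ => rfl) fun j hj => ?_
  have h := rels_basis ((by decide +kernel : ∀ x < 9, [x, x] ∈ lsT) x hx) hj
  simpa [appWord_cons, appWord, strict_eq] using h

/-- The linear maps of the letters. -/
noncomputable def pm (x : ℕ) : Equiv.Perm V :=
  if hx : x < 9 then
    (show Function.Involutive (fun v : V => (⟨app (mats.getD x []) v, app_lt _ (mats_lt x) v⟩ : V)) from
      fun v => Fin.ext (letter_invol hx v v.2)).toPerm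
  else 1

theorem pm_apply {x : ℕ} (hx : x < 9) (v : V) : ((pm x v : V) : ℕ) = app (mats.getD x []) v := by
  rw [pm, dif_pos hx]; rfl

theorem pm_sq (x : ℕ) : pm x * pm x = 1 := by
  by_cases hx : x < 9
  · refine Equiv.ext fun v => Fin.ext ?_
    rw [Equiv.Perm.mul_apply, pm_apply hx, pm_apply hx]
    exact letter_invol hx v v.2
  · rw [pm, dif_neg hx, one_mul]

theorem omega_cube : ∀ v < 2 ^ 54, app omega (app omega (app omega v)) = v :=
  ext_basis (fun v => app omega (app omega (app omega v))) (fun v => v)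
    (fun u v => by rw [app_xor, app_xor, app_xor]) (fun _ _ => rfl) fun j hj => (letters_basis hj).2.1

/-- Multiplication by `ω`. -/
noncomputable def rot : Equiv.Perm V where
  toFun v := ⟨app omega v, app_lt _ omega_lt v⟩
  invFun v := ⟨app omega (app omega v), app_lt _ omega_lt _⟩
  left_inv v := Fin.ext (omega_cube v v.2)
  right_inv v := Fin.ext (omega_cube v v.2)

theorem rot_apply (v : V) : ((rot v : V) : ℕ) = app omega v := rfl

theorem pm_comm_rot (x : ℕ) : pm x * rot = rot * pm x := by
  by_cases hx : x < 9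
  · refine Equiv.ext fun v => Fin.ext ?_
    rw [Equiv.Perm.mul_apply, Equiv.Perm.mul_apply, pm_apply hx, rot_apply, rot_apply, pm_apply hx]
    exact ext_basis (fun v => app (mats.getD x []) (app omega v)) (fun v => app omega (app (mats.getD x []) v))
      (fun u v => by rw [app_xor, app_xor]) (fun u v => by rw [app_xor, app_xor])
      (fun j hj => (letters_basis hj).1 x hx) v v.2
  · rw [pm, dif_neg hx, one_mul, mul_one]

theorem prod_apply : ∀ l : List ℕ, (∀ x ∈ l, x < 9) → ∀ v : V, (((l.map pm).prod v : V) : ℕ) = appWord l v := by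
  intro l
  induction l with
  | nil => intro _ v; rfl
  | cons x r ih =>
    intro hl v
    rw [List.map_cons, List.prod_cons, Equiv.Perm.mul_apply, pm_apply (hl x (by simp)),
      ih (fun z hz => hl z (List.mem_cons_of_mem _ hz)), appWord_cons]

theorem prod_rev (l : List ℕ) : (l.map pm).prod * (l.reverse.map pm).prod = 1 := by
  induction l with
  | nil => simp
  | cons x r ih =>
    rw [List.reverse_cons, List.map_append, List.prod_append, List.map_cons, List.map_cons, List.prod_cons,
      List.map_nil, List.prod_cons, List.prod_nil, mul_one]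
    calc pm x * (r.map pm).prod * ((r.reverse.map pm).prod * pm x)
        = pm x * ((r.map pm).prod * (r.reverse.map pm).prod) * pm x := by group
      _ = 1 := by rw [ih, mul_one, pm_sq]

theorem word_eq_one (l : List ℕ) (hl : l ∈ lsT) : (l.map pm).prod = 1 := by
  have h9 : ∀ x ∈ l, x < 9 := by revert l; decide +kernel
  refine Equiv.ext fun v => Fin.ext ?_
  rw [prod_apply l h9, Equiv.Perm.one_apply]
  exact ext_basis (appWord l) (fun v => v) (appWord_xor l) (fun _ _ => rfl) (fun j hj => rels_basis hl hj) v v.2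

theorem sw_eq : (sw.map pm).prod = rot⁻¹ := by
  refine eq_inv_of_mul_eq_one_right (Equiv.ext fun v => Fin.ext ?_)
  rw [Equiv.Perm.mul_apply, rot_apply, prod_apply sw (by decide +kernel), Equiv.Perm.one_apply]
  exact ext_basis (fun v => app omega (appWord sw v)) (fun v => v)
    (fun u v => by rw [appWord_xor, app_xor]) (fun _ _ => rfl) (fun j hj => (letters_basis hj).2.2) v v.2

/-- The group of linear permutations. -/
abbrev Cc : Subgroup (Equiv.Perm V) := Subgroup.centralizer {rot}

theorem pm_mem (x : ℕ) : pm x ∈ Cc := Subgroup.mem_centralizer_singleton_iff.mpr (pm_comm_rot x)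

/-- Letters in the linear group. -/
noncomputable def mc (x : ℕ) : Cc := ⟨pm x, pm_mem x⟩

theorem mc_prod (l : List ℕ) : (((l.map mc).prod : Cc) : Equiv.Perm V) = (l.map pm).prod := by
  induction l with
  | nil => rfl
  | cons x r ih =>
    rw [List.map_cons, List.prod_cons, Subgroup.coe_mul, ih, List.map_cons, List.prod_cons]
    rfl

/-- Pairs of letters. -/
noncomputable def pr (x : ℕ) : G × Cc := (g x, mc x)

theorem pr_prod (l : List ℕ) : (l.map pr).prod = ((l.map g).prod, (l.map mc).prod) := by
  induction l with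
  | nil => rfl
  | cons a r ih => simp [ih, pr]

/-- The triple cover. -/
noncomputable def cover : Subgroup (G × Cc) := Subgroup.closure {p | ∃ x < 9, p = pr x}

/-- Its map to `Fi22`. -/
noncomputable def proj : cover →* G := (MonoidHom.fst G Cc).comp cover.subtype

theorem finite_cover : Finite cover := by
  haveI : Finite G := Fi22.finite
  infer_instance

theorem proj_surjective : Function.Surjective proj := by
  rw [← MonoidHom.range_eq_top, eq_top_iff]
  refine Fi22.translation.closure_top.trans ((Subgroup.closure_le _).mpr ?_)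
  rintro _ ⟨i, hi, rfl⟩
  rcases Fi22.gen_or_one i hi with h | h
  · exact ⟨⟨pr i, Subgroup.subset_closure ⟨i, h, rfl⟩⟩, rfl⟩
  · show g i ∈ proj.range
    rw [h]; exact one_mem _

/-- The central element over the spider word. -/
noncomputable def swPair : cover :=
  ⟨(sw.map pr).prod, list_prod_mem fun p hp => by
    obtain ⟨x, hx, rfl⟩ := List.mem_map.mp hp
    exact Subgroup.subset_closure ⟨x, (by decide +kernel : ∀ x ∈ sw, x < 9) x hx, rfl⟩⟩

theorem swPair_val : (swPair : G × Cc).1 = 1 ∧
    (((swPair : G × Cc).2 : Cc) : Equiv.Perm V) = rot⁻¹ := by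
  show ((sw.map pr).prod).1 = 1 ∧ _
  refine ⟨?_, ?_⟩
  · rw [pr_prod]
    exact (Fi22.lsWords sw (by decide +kernel)).2
  · show ((((sw.map pr).prod).2 : Cc) : Equiv.Perm V) = _
    rw [pr_prod, mc_prod, sw_eq]

theorem rot_order : rot ^ 3 = 1 ∧ rot ≠ 1 := by
  refine ⟨Equiv.ext fun v => Fin.ext ?_, fun h => ?_⟩
  · simp only [pow_succ, pow_zero, one_mul, Equiv.Perm.mul_apply, Equiv.Perm.one_apply, rot_apply]
    exact omega_cube v v.2
  · have := congrArg (fun e : Equiv.Perm V => ((e ⟨1, by norm_num⟩ : V) : ℕ)) h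
    simp only [Equiv.Perm.one_apply, rot_apply] at this
    exact absurd this (by decide +kernel)

theorem orderOf_swPair : orderOf swPair = 3 := by
  haveI : Fact (Nat.Prime 3) := ⟨by norm_num⟩
  refine orderOf_eq_prime ?_ ?_
  · apply Subtype.ext
    rw [SubmonoidClass.coe_pow]
    refine Prod.ext ?_ (Subtype.ext ?_)
    · rw [Prod.pow_fst, swPair_val.1, one_pow]; rfl
    · rw [Prod.pow_snd, SubmonoidClass.coe_pow, swPair_val.2, inv_pow, rot_order.1, inv_one]; rfl
  · intro h
    refine rot_order.2 (inv_eq_one.mp ?_)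
    rw [← swPair_val.2, h]; rfl

/-- The phases in the linear group. -/
noncomputable abbrev Rot : Subgroup Cc := Subgroup.zpowers ⟨rot, Subgroup.mem_centralizer_singleton_iff.mpr rfl⟩

instance rot_normal : Rot.Normal := by
  refine ⟨fun a ha b => ?_⟩
  obtain ⟨k, rfl⟩ := ha
  have h : Commute b (⟨rot, Subgroup.mem_centralizer_singleton_iff.mpr rfl⟩ : Cc) :=
    Subtype.ext (Subgroup.mem_centralizer_singleton_iff.mp b.2)
  rw [(h.zpow_right k).eq, mul_inv_cancel_right]
  exact ⟨k, rfl⟩

theorem exists_section : ∃ φ : G →* Cc ⧸ Rot, ∀ i < 9, φ (g i) = QuotientGroup.mk' Rot (mc i) := by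
  let π := QuotientGroup.mk' Rot
  let φ0 : FreeGroup Cfsg.Spor.Fi22.Gen →* Cc ⧸ Rot := FreeGroup.lift fun c => π (mc (Fi22.idx c))
  have hout : ∀ i, 9 ≤ i → mc i = 1 := fun i hi => Subtype.ext (dif_neg (by omega))
  have hφ0 : ∀ i < 16, φ0 (Fi22.gF i) = π (mc i) := by
    intro i hi
    interval_cases i
    all_goals first
      | exact FreeGroup.lift_apply_of
      | (rw [hout _ (by omega), map_one]; exact map_one φ0)
  have hrel : ∀ r ∈ Cfsg.Spor.coxRelators Cfsg.Spor.Fi22.edges ∪ {r | r ∈ Cfsg.Spor.Fi22.extra}, φ0 r = 1 := by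
    refine Fi22.translation.relator_eq_one φ0 (fun i hi => ?_) (fun l hl => ?_)
    · rw [hφ0 i hi, hφ0 _ (linv_lt _ _), Fi22.linv_eq i hi, ← map_inv]
      congr 1
      exact Subtype.ext (inv_eq_of_mul_eq_one_right (pm_sq i)).symm
    · rw [List.map_congr_left (fun i hi => hφ0 i ((Fi22.lsWords l hl).1 i hi)),
        show (l.map fun i => π (mc i)).prod = π (l.map mc).prod by rw [map_list_prod, List.map_map]; rfl]
      refine (QuotientGroup.eq_one_iff _).mpr ?_
      rcases (by decide +kernel : ∀ l ∈ Fi22.ls, l ∈ lsT ∨ l.reverse ∈ lsT ∨ l = sw) l hl with h | h | rfl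
      · have : (l.map mc).prod = 1 := Subtype.ext (by rw [mc_prod, word_eq_one l h]; rfl)
        rw [this]; exact one_mem _
      · have : (l.map mc).prod = 1 := Subtype.ext (by
          rw [mc_prod]
          have h1 := prod_rev l
          rw [word_eq_one _ h, mul_one] at h1
          exact h1)
        rw [this]; exact one_mem _
      · exact ⟨-1, Subtype.ext (by rw [mc_prod, sw_eq]; simp)⟩
  refine ⟨PresentedGroup.toGroup hrel, fun i hi => ?_⟩
  rw [← hφ0 i (by omega)]
  interval_cases i <;> exact (PresentedGroup.toGroup.of hrel).trans FreeGroup.lift_apply_of.symm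

theorem ker_proj : ∀ a : cover, proj a = 1 → a ∈ Subgroup.zpowers swPair := by
  obtain ⟨φ, hφ⟩ := exists_section
  intro a ha
  have hle : cover ≤ (φ.comp (MonoidHom.fst G Cc)).eqLocus ((QuotientGroup.mk' Rot).comp (MonoidHom.snd G Cc)) := by
    refine (Subgroup.closure_le _).mpr ?_
    rintro _ ⟨i, hi, rfl⟩
    exact hφ i hi
  have h := hle a.2
  change φ (a : G × Cc).1 = QuotientGroup.mk' Rot (a : G × Cc).2 at h
  rw [show (a : G × Cc).1 = 1 from ha, map_one] at h
  obtain ⟨k, hk⟩ := (QuotientGroup.eq_one_iff _).mp h.symm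
  refine ⟨-k, Subtype.ext ?_⟩
  rw [SubgroupClass.coe_zpow]
  refine Prod.ext ?_ (Subtype.ext ?_)
  · rw [show ((swPair : G × Cc) ^ (-k)).1 = (swPair : G × Cc).1 ^ (-k) from rfl, swPair_val.1, one_zpow]
    exact ha.symm
  · rw [show ((swPair : G × Cc) ^ (-k)).2 = (swPair : G × Cc).2 ^ (-k) from rfl, SubgroupClass.coe_zpow, swPair_val.2,
      ← hk, SubgroupClass.coe_zpow]
    simp

theorem ker_central : proj.ker ≤ Subgroup.center cover := by
  intro a ha
  obtain ⟨k, rfl⟩ := ker_proj a ha
  refine Subgroup.zpow_mem _ (Subgroup.mem_center_iff.mpr fun b => Subtype.ext (Prod.ext ?_ (Subtype.ext ?_))) k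
  · show (b : G × Cc).1 * (swPair : G × Cc).1 = (swPair : G × Cc).1 * (b : G × Cc).1
    rw [swPair_val.1, one_mul, mul_one]
  · show (((b : G × Cc).2 : Cc) : Equiv.Perm V) * (((swPair : G × Cc).2 : Cc) : Equiv.Perm _) =
      (((swPair : G × Cc).2 : Cc) : Equiv.Perm _) * (((b : G × Cc).2 : Cc) : Equiv.Perm _)
    rw [swPair_val.2]
    exact ((Commute.inv_right (Subgroup.mem_centralizer_singleton_iff.mp (b : G × Cc).2.2))).eq

theorem cover_perfect : _root_.commutator cover = ⊤ := by
  let u : ℕ → Abelianization cover := fun i =>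
    if h : i < 9 then Abelianization.of ⟨pr i, Subgroup.subset_closure ⟨i, h, rfl⟩⟩ else 1
  have hlift : ∀ l : List ℕ, (∀ i ∈ l, i < 9) → (l.map pr).prod = 1 → (l.map u).prod = 1 := by
    intro l hl h1
    have key : ∀ l : List ℕ, ∀ hl : (∀ i ∈ l, i < 9), (l.map u).prod = Abelianization.of
        (⟨(l.map pr).prod, list_prod_mem fun p hp => by
          obtain ⟨x, hx, rfl⟩ := List.mem_map.mp hp
          exact Subgroup.subset_closure ⟨x, hl x hx, rfl⟩⟩ : cover) := by
      intro l
      induction l with
      | nil => intro _; exact (map_one _).symm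
      | cons x r ih =>
        intro hl
        rw [List.map_cons, List.prod_cons, ih fun z hz => hl z (List.mem_cons_of_mem _ hz)]
        simp only [u, dif_pos (hl x (by simp)), ← map_mul]
        rfl
    rw [key l hl]
    simp only [h1]
    exact map_one _
  have hone : ∀ l ∈ lsT, l ∈ Fi22.ls → (l.map pr).prod = 1 := by
    intro l h1 h2
    rw [pr_prod, (Fi22.lsWords l h2).2, show (l.map mc).prod = 1 from Subtype.ext (by rw [mc_prod, word_eq_one l h1]; rfl)]
    rfl
  have hrel : ∀ l ∈ lsT, (l.map u).prod = 1 := fun l hl =>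
    hlift l ((by decide +kernel : ∀ l ∈ lsT, ∀ i ∈ l, i < 9) l hl)
      (hone l hl ((by decide +kernel : ∀ l ∈ lsT, l ∈ Fi22.ls) l hl))
  have hsq : ∀ i < 9, u i * u i = 1 := fun i hi => by
    simpa using hrel [i, i] ((by decide +kernel : ∀ i < 9, [i, i] ∈ lsT) i hi)
  have hedge : ∀ i j : ℕ, i < 9 → j < 9 → [i, j, i, j, i, j] ∈ lsT → u i = u j := by
    intro i j hi hj h
    have h1 := hrel _ h
    simp only [List.map_cons, List.map_nil, List.prod_cons, List.prod_nil, mul_one] at h1
    have h2 : (u i * u j) ^ 3 = 1 := by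
      simpa only [pow_succ, pow_zero, one_mul, mul_assoc] using h1
    rw [pow_succ, mul_pow, pow_two, pow_two, hsq i hi, hsq j hj, one_mul, one_mul] at h2
    rw [eq_inv_of_mul_eq_one_left h2]
    exact inv_eq_of_mul_eq_one_right (hsq j hj)
  have h01 := hedge 0 1 (by omega) (by omega) (by decide +kernel)
  have h12 := hedge 1 2 (by omega) (by omega) (by decide +kernel)
  have h23 := hedge 2 3 (by omega) (by omega) (by decide +kernel)
  have h34 := hedge 3 4 (by omega) (by omega) (by decide +kernel)
  have h45 := hedge 4 5 (by omega) (by omega) (by decide +kernel)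
  have h56 := hedge 5 6 (by omega) (by omega) (by decide +kernel)
  have h37 := hedge 3 7 (by omega) (by omega) (by decide +kernel)
  have h78 := hedge 7 8 (by omega) (by omega) (by decide +kernel)
  have hall : ∀ i < 9, u i = u 0 := by
    intro i hi
    interval_cases i
    exacts [rfl, h01.symm, (h01.trans h12).symm, ((h01.trans h12).trans h23).symm,
      (((h01.trans h12).trans h23).trans h34).symm, ((((h01.trans h12).trans h23).trans h34).trans h45).symm,
      (((((h01.trans h12).trans h23).trans h34).trans h45).trans h56).symm,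
      (((h01.trans h12).trans h23).trans h37).symm, ((((h01.trans h12).trans h23).trans h37).trans h78).symm]
  have hwA := hrel ((List.replicate 9 [0, 1, 2, 3, 4, 5, 7]).flatten) (by decide +kernel)
  rw [List.map_congr_left fun i hi => hall i ((by decide : ∀ i ∈ (List.replicate 9 [0, 1, 2, 3, 4, 5, 7]).flatten, i < 9) i hi),
    List.map_const', List.prod_replicate,
    show ((List.replicate 9 [0, 1, 2, 3, 4, 5, 7]).flatten).length = 2 * 31 + 1 from by decide, pow_succ, pow_mul,
    pow_two, hsq 0 (by omega), one_pow, one_mul] at hwA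
  have htop : (⊤ : Subgroup cover) ≤ (Abelianization.of : cover →* Abelianization cover).ker := by
    rintro ⟨a, ha⟩ -
    induction ha using Subgroup.closure_induction with
    | mem p hp =>
      obtain ⟨i, hi, rfl⟩ := hp
      rw [MonoidHom.mem_ker]
      have := hall i hi
      rw [hwA] at this
      simpa [u, dif_pos hi] using this
    | one => exact one_mem _
    | mul p q hp hq ihp ihq => exact mul_mem ihp ihq
    | inv p hp ihp => exact inv_mem ihp
  rw [← top_le_iff, ← Abelianization.ker_of]
  exact htop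

end CfsgLib.SchurFi22.Mono
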