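import Cfsg.Agent.Lib.Schur.FiTwentyTwo.Lifts
import Cfsg.Agent.Lib.Schur.FiTwentyTwo.Triple
import Cfsg.Agent.Lib.CosetEnum.Fi23.Cover
import Cfsg.Agent.Lib.CosetEnum.Fi22.Simple

set_option autoImplicit false
set_option linter.all false

/-! The Schur multiplier of `Fi22` is cyclic of order six. -/

set_option maxRecDepth 20000

namespace CfsgLib.SchurFi22

open CfsgLib.CosetEnum

local notation "G" => Cfsg.Spor.Fi22

theorem G_perfect : _root_.commutator G = ⊤ := by
  haveI := Mono.finite_cover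
  rw [eq_top_iff]
  intro b _
  obtain ⟨a, rfl⟩ := Mono.proj_surjective b
  have ha : a ∈ _root_.commutator Mono.cover := by rw [Mono.cover_perfect]; exact Subgroup.mem_top a
  have h : (_root_.commutator Mono.cover).map Mono.proj ≤ _root_.commutator G := by
    rw [commutator_def, Subgroup.map_commutator]
    exact Subgroup.commutator_mono le_top le_top
  exact h ⟨a, ha, rfl⟩

/-- The double cover, as a map. -/
theorem exists_double : ∃ σ : Fi23.H →* G, Function.Surjective σ ∧ σ.ker = Subgroup.center Fi23.H ∧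
    _root_.commutator Fi23.H = ⊤ ∧ Nat.card σ.ker = 2 := by
  obtain ⟨h2, ⟨e⟩, hsplit⟩ := Fi23.doubleCover
  set σ : Fi23.H →* G := e.toMonoidHom.comp (QuotientGroup.mk' (Subgroup.center Fi23.H))
  have hker : σ.ker = Subgroup.center Fi23.H := by
    ext a
    simp [σ, MonoidHom.mem_ker, QuotientGroup.eq_one_iff]
  have hs : Function.Surjective σ := e.surjective.comp (QuotientGroup.mk'_surjective _)
  have htop : _root_.commutator Fi23.H ⊔ Subgroup.center Fi23.H = ⊤ := by
    refine eq_top_iff.mpr fun a _ => ?_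
    have hm : σ a ∈ (_root_.commutator Fi23.H).map σ := by
      rw [commutator_def, Subgroup.map_commutator, Subgroup.map_top_of_surjective σ hs, ← commutator_def, G_perfect]
      exact Subgroup.mem_top _
    obtain ⟨c, hc, hca⟩ := hm
    have : c⁻¹ * a ∈ Subgroup.center Fi23.H := by
      rw [← hker, MonoidHom.mem_ker, map_mul, map_inv, hca, inv_mul_cancel]
    have := Subgroup.mul_mem_sup hc this
    rwa [mul_inv_cancel_left] at this
  have hne : Subgroup.center Fi23.H ≤ _root_.commutator Fi23.H := by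
    by_contra hcon
    refine hsplit (_root_.commutator Fi23.H) (Subgroup.isComplement'_of_disjoint_and_mul_eq_univ ?_ ?_)
    · rw [disjoint_iff, eq_bot_iff]
      intro a ha
      by_contra ha1
      refine hcon fun b hb => ?_
      haveI : Fact (Nat.Prime 2) := ⟨Nat.prime_two⟩
      have hgen : Subgroup.zpowers (⟨a, ha.1⟩ : Subgroup.center Fi23.H) = ⊤ :=
        zpowers_eq_top_of_prime_card h2 fun h => ha1 (by simpa using congrArg Subtype.val h)
      obtain ⟨k, hk⟩ : (⟨b, hb⟩ : Subgroup.center Fi23.H) ∈ Subgroup.zpowers (⟨a, ha.1⟩ : Subgroup.center Fi23.H) := by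
        rw [hgen]; exact Subgroup.mem_top _
      have hbk : a ^ k = b := by simpa using congrArg Subtype.val hk
      rw [← hbk]
      exact Subgroup.zpow_mem _ ha.2 k
    · rw [← Subgroup.normal_mul, sup_comm, htop]; rfl
  refine ⟨σ, hs, hker, ?_, by rw [hker]; exact h2⟩
  rw [← htop, eq_comm, sup_eq_left]
  exact hne

/-- A stem extension with kernel of order six. -/
theorem exists_cover : ∃ (Γ : Type) (_ : Group Γ) (_ : Finite Γ) (σ : Γ →* G),
    Cfsg.IsStemExtension σ ∧ Nonempty (σ.ker ≃* Multiplicative (ZMod 6)) := by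
  obtain ⟨σ2, hs2, hk2, hperf2, hc2⟩ := exists_double
  haveI : Finite Cfsg.Spor.Fi23 := Fi23.finite
  haveI := Mono.finite_cover
  set P : Subgroup (Fi23.H × Mono.cover) :=
    (σ2.comp (MonoidHom.fst _ _)).eqLocus (Mono.proj.comp (MonoidHom.snd _ _))
  let σ : P →* G := (σ2.comp (MonoidHom.fst _ _)).comp P.subtype
  have hP : ∀ p : P, σ2 (p : Fi23.H × Mono.cover).1 = Mono.proj (p : Fi23.H × Mono.cover).2 := fun p => p.2
  have hsurj : Function.Surjective σ := by
    intro b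
    obtain ⟨u, hu⟩ := hs2 b
    obtain ⟨v, hv⟩ := Mono.proj_surjective b
    exact ⟨⟨(u, v), hu.trans hv.symm⟩, hu⟩
  -- both projections of the commutator subgroup are onto
  have hf : ∀ u : Fi23.H, ∃ p ∈ _root_.commutator P, (p : Fi23.H × Mono.cover).1 = u := by
    intro u
    have hm : u ∈ (_root_.commutator P).map ((MonoidHom.fst _ _).comp P.subtype) := by
      rw [commutator_def, Subgroup.map_commutator, Subgroup.map_top_of_surjective _ (fun u => by
        obtain ⟨v, hv⟩ := Mono.proj_surjective (σ2 u)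
        exact ⟨⟨(u, v), hv.symm⟩, rfl⟩), ← commutator_def, hperf2]
      exact Subgroup.mem_top _
    obtain ⟨p, hp, hpu⟩ := hm
    exact ⟨p, hp, hpu⟩
  have hg : ∀ v : Mono.cover, ∃ p ∈ _root_.commutator P, (p : Fi23.H × Mono.cover).2 = v := by
    intro v
    have hm : v ∈ (_root_.commutator P).map ((MonoidHom.snd _ _).comp P.subtype) := by
      rw [commutator_def, Subgroup.map_commutator, Subgroup.map_top_of_surjective _ (fun v => by
        obtain ⟨u, hu⟩ := hs2 (Mono.proj v)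
        exact ⟨⟨(u, v), hu⟩, rfl⟩), ← commutator_def, Mono.cover_perfect]
      exact Subgroup.mem_top _
    obtain ⟨p, hp, hpv⟩ := hm
    exact ⟨p, hp, hpv⟩
  obtain ⟨u0, hu0⟩ : ∃ u : σ2.ker, u ≠ 1 :=
    haveI : Nontrivial σ2.ker := Finite.one_lt_card_iff_nontrivial.mp (by rw [hc2]; norm_num)
    exists_ne 1
  haveI : Fact (Nat.Prime 2) := ⟨Nat.prime_two⟩
  have hgen2 : Subgroup.zpowers u0 = ⊤ := zpowers_eq_top_of_prime_card hc2 hu0
  have hu2 : orderOf (u0 : Fi23.H) = 2 := by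
    rw [Subgroup.orderOf_coe, ← Nat.card_zpowers, hgen2, Subgroup.card_top, hc2]
  have hsw1 : Mono.proj Mono.swPair = 1 := Mono.swPair_val.1
  let k0 : P := ⟨((u0 : Fi23.H), Mono.swPair), by
    show σ2 (u0 : Fi23.H) = Mono.proj Mono.swPair
    rw [hsw1]; exact u0.2⟩
  have hk0 : σ k0 = 1 := u0.2
  have hkerle : σ.ker ≤ Subgroup.zpowers k0 := by
    intro p hp
    have h1 : σ2 (p : Fi23.H × Mono.cover).1 = 1 := hp
    obtain ⟨b, hb⟩ := Mono.ker_proj _ ((hP p).symm.trans h1)
    obtain ⟨a, ha⟩ : (⟨(p : Fi23.H × Mono.cover).1, h1⟩ : σ2.ker) ∈ Subgroup.zpowers u0 := by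
      rw [hgen2]; exact Subgroup.mem_top _
    refine ⟨3 * a + 4 * b, Subtype.ext ?_⟩
    rw [SubgroupClass.coe_zpow]
    refine Prod.ext ?_ ?_
    · show (u0 : Fi23.H) ^ (3 * a + 4 * b) = _
      rw [zpow_eq_zpow_emod (m := 3 * a + 4 * b) (n := 2) (by
          rw [zpow_ofNat, ← hu2, pow_orderOf_eq_one]),
        show (3 * a + 4 * b) % 2 = a % 2 by omega,
        ← zpow_eq_zpow_emod (m := a) (n := 2) (by rw [zpow_ofNat, ← hu2, pow_orderOf_eq_one])]
      simpa using congrArg Subtype.val ha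
    · show Mono.swPair ^ (3 * a + 4 * b) = _
      rw [zpow_eq_zpow_emod (m := 3 * a + 4 * b) (n := 3) (by
          rw [zpow_ofNat, ← Mono.orderOf_swPair, pow_orderOf_eq_one]),
        show (3 * a + 4 * b) % 3 = b % 3 by omega,
        ← zpow_eq_zpow_emod (m := b) (n := 3) (by rw [zpow_ofNat, ← Mono.orderOf_swPair, pow_orderOf_eq_one])]
      exact hb
  have hker : σ.ker = Subgroup.zpowers k0 :=
    le_antisymm hkerle (Subgroup.zpowers_le.mpr (MonoidHom.mem_ker.mpr hk0))
  have hord : orderOf k0 = 6 := by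
    rw [← Subgroup.orderOf_coe, Prod.orderOf]
    show Nat.lcm (orderOf (u0 : Fi23.H)) (orderOf Mono.swPair) = 6
    rw [hu2, Mono.orderOf_swPair]; rfl
  have hcen : σ.ker ≤ Subgroup.center P := by
    rw [hker, Subgroup.zpowers_le]
    refine Subgroup.mem_center_iff.mpr fun q => Subtype.ext (Prod.ext ?_ ?_)
    · have : (u0 : Fi23.H) ∈ Subgroup.center Fi23.H := hk2 ▸ u0.2
      exact Subgroup.mem_center_iff.mp this _
    · exact Subgroup.mem_center_iff.mp (Mono.ker_central (MonoidHom.mem_ker.mpr hsw1)) _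
  have hder : σ.ker ≤ _root_.commutator P := by
    rw [hker, Subgroup.zpowers_le]
    obtain ⟨p, hp, hpu⟩ := hf (u0 : Fi23.H)
    obtain ⟨q, hq, hqv⟩ := hg Mono.swPair
    have hpk : p ∈ σ.ker := by
      show σ2 (p : Fi23.H × Mono.cover).1 = 1
      rw [hpu]; exact u0.2
    have hqk : q ∈ σ.ker := by
      show σ2 (q : Fi23.H × Mono.cover).1 = 1
      rw [hP q, hqv]; exact hsw1
    obtain ⟨i, hi⟩ := hkerle hpk
    obtain ⟨j, hj⟩ := hkerle hqk
    have e1 : (u0 : Fi23.H) ^ i = (u0 : Fi23.H) ^ (1 : ℤ) := by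
      rw [zpow_one]
      conv_rhs => rw [← hpu, ← hi]
      rfl
    have e2 : Mono.swPair ^ j = Mono.swPair ^ (1 : ℤ) := by
      rw [zpow_one]
      conv_rhs => rw [← hqv, ← hj]
      rfl
    have hi1 := (zpow_eq_zpow_iff_modEq).mp e1
    have hj1 := (zpow_eq_zpow_iff_modEq).mp e2
    rw [hu2] at hi1
    rw [Mono.orderOf_swPair] at hj1
    have h3 : (3 * i + 4 * j) ≡ 1 [ZMOD (orderOf k0 : ℤ)] := by
      rw [hord]
      simp only [Int.ModEq] at hi1 hj1 ⊢
      push_cast at hi1 hj1 ⊢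
      omega
    have e : k0 = p ^ (3 : ℤ) * q ^ (4 : ℤ) := by
      rw [← hi, ← hj, ← zpow_mul, ← zpow_mul, ← zpow_add, mul_comm i, mul_comm j]
      conv_lhs => rw [← zpow_one k0]
      exact (zpow_eq_zpow_iff_modEq.mpr h3).symm
    rw [e]
    exact mul_mem (zpow_mem hp 3) (zpow_mem hq 4)
  refine ⟨P, inferInstance, inferInstance, σ, ⟨hsurj, hcen, hder⟩, ⟨?_⟩⟩
  have hc6 : Nat.card σ.ker = 6 := by rw [hker, Nat.card_zpowers, hord]
  haveI : IsCyclic σ.ker := hker ▸ inferInstance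
  exact mulEquivOfCyclicCardEq (by rw [hc6]; simp)

/-- The kernel of every finite stem extension is a quotient of the cyclic group of order six. -/
theorem exists_onto {Γ : Type} [Group Γ] [Finite Γ] (σ : Γ →* G) (hσ : Cfsg.IsStemExtension σ) :
    ∃ π : Multiplicative (ZMod 6) →* σ.ker, Function.Surjective π := by
  obtain ⟨β, s, hβ, hs, hσβ, hσs, hle⟩ := ker_generated σ hσ
  have hc : ∀ a, σ a = 1 → ∀ b : Γ, Commute a b := fun a ha b =>
    (Subgroup.mem_center_iff.mp (hσ.2.1 (MonoidHom.mem_ker.mpr ha)) b).symm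
  let k : σ.ker := ⟨β * s, by rw [MonoidHom.mem_ker, map_mul, hσβ, hσs, one_mul]⟩
  have hk6 : k ^ 6 = 1 := Subtype.ext (by
    show (β * s) ^ 6 = 1
    rw [(hc β hσβ s).mul_pow, show 6 = 2 * 3 from rfl, pow_mul, hβ, one_pow, one_mul, mul_comm 2 3, pow_mul, hs,
      one_pow])
  have hβm : β ∈ Subgroup.zpowers (β * s) :=
    ⟨3, by
      show (β * s) ^ (3 : ℤ) = β
      rw [zpow_ofNat, (hc β hσβ s).mul_pow, hs, mul_one, pow_succ, hβ, one_mul]⟩
  have hsm : s ∈ Subgroup.zpowers (β * s) :=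
    ⟨4, by
      show (β * s) ^ (4 : ℤ) = s
      rw [zpow_ofNat, (hc β hσβ s).mul_pow, show 4 = 2 * 2 from rfl, pow_mul, hβ, one_pow, one_mul,
        show 2 * 2 = 3 + 1 from rfl, pow_succ, hs, one_mul]⟩
  have hall : ∀ a : σ.ker, a ∈ Subgroup.zpowers k := by
    intro a
    have : (a : Γ) ∈ Subgroup.zpowers (β * s) := by
      refine (Subgroup.closure_le _).mpr ?_ (hle a.2)
      rintro b (rfl | rfl) <;> assumption
    obtain ⟨n, hn⟩ := this
    exact ⟨n, Subtype.ext hn⟩
  let f : ℤ →+ Additive σ.ker := zmultiplesHom _ (Additive.ofMul k)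
  have hf6 : f ((6 : ℕ) : ℤ) = 0 := by
    show ((6 : ℕ) : ℤ) • Additive.ofMul k = 0
    rw [natCast_zsmul, ← ofMul_pow, hk6]; rfl
  refine ⟨AddMonoidHom.toMultiplicativeLeft (ZMod.lift 6 ⟨f, hf6⟩), fun a => ?_⟩
  obtain ⟨n, hn⟩ := hall a
  refine ⟨Multiplicative.ofAdd (n : ZMod 6), ?_⟩
  show Additive.toMul (ZMod.lift 6 ⟨f, hf6⟩ (n : ZMod 6)) = a
  rw [ZMod.lift_coe]
  exact hn

end CfsgLib.SchurFi22
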